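import Cfsg.Agent.Lib.AltModFixed.Check

/-!
# Stabilizers that are not solvable
-/

set_option autoImplicit false

namespace CfsgLib.AltModFixed

open Equiv

variable {n : ℕ} {V : Type*} [AddCommGroup V] (ρ : Alt n →* AddMonoid.End V)

/-- the stabilizer of `x` -/
def stab (x : V) : Subgroup (Alt n) where
  carrier := {g | ρ g x = x}
  mul_mem' {g h} hg hh := by
    simp only [Set.mem_setOf_eq] at hg hh ⊢
    rw [act_mul, hh, hg]
  one_mem' := act_one ρ x
  inv_mem' {g} hg := by
    simp only [Set.mem_setOf_eq] at hg ⊢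
    calc ρ g⁻¹ x = ρ g⁻¹ (ρ g x) := by rw [hg]
      _ = x := act_cancel' ρ g x

theorem mem_stab {x : V} {g : Alt n} : g ∈ stab ρ x ↔ ρ g x = x := Iff.rfl

/-- only `0` has a stabilizer which is not solvable -/
def NSFree : Prop := ∀ x : V, ¬ Group.IsSolvable (stab ρ x) → x = 0

/-- the product of a word in the elements `gs` -/
noncomputable def wordProd (n : ℕ) (gs : List Elem) (w : List ℕ) : Alt n :=
  (w.map fun a => elt n (gs.getD a ⟨0, []⟩)).prod

def wordCodes (gs : List Elem) (w : List ℕ) : List ℕ := w.map fun a => (gs.getD a ⟨0, []⟩).code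

theorem getD_mem {gs : List Elem} {a : ℕ} (h : Nat.blt a gs.length = true) :
    gs.getD a ⟨0, []⟩ ∈ gs := by
  have hlt : a < gs.length := by simpa using h
  rw [List.getD_eq_getElem _ _ hlt]; exact List.getElem_mem hlt

theorem wordCodes_spec {gs : List Elem} (hg : ∀ g ∈ gs, okE n g = true) {w : List ℕ}
    (hw : w.all (fun a => Nat.blt a gs.length) = true) :
    List.Forall₂ IsCode (w.map fun a => elt n (gs.getD a ⟨0, []⟩)) (wordCodes gs w) := by
  simp only [List.all_eq_true] at hw
  induction w with
  | nil => exact List.Forall₂.nil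
  | cons a w ih =>
    exact List.Forall₂.cons (elt_isCode (hg _ (getD_mem (hw a (List.mem_cons_self ..)))))
      (ih fun b hb => hw b (List.mem_cons_of_mem _ hb))

theorem wordProd_mem {gs : List Elem} {S : Subgroup (Alt n)} (hS : ∀ g ∈ gs, elt n g ∈ S)
    {w : List ℕ} (hw : w.all (fun a => Nat.blt a gs.length) = true) : wordProd n gs w ∈ S := by
  simp only [List.all_eq_true] at hw
  refine S.list_prod_mem fun x hx => ?_
  obtain ⟨a, ha, rfl⟩ := List.mem_map.1 hx
  exact hS _ (getD_mem (hw a ha))

/-- `g ↦ c⁻¹ g c` is given by words -/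
def okMove (n : ℕ) (gs : List Elem) (c : Elem) (g : Elem) (w : List ℕ) : Bool :=
  w.all (fun a => Nat.blt a gs.length) && weq n [g.code, c.code] (c.code :: wordCodes gs w)

theorem move_spec {gs : List Elem} (hg : ∀ g ∈ gs, okE n g = true) {c g : Elem}
    (hc : okE n c = true) (hge : okE n g = true) {w : List ℕ} (h : okMove n gs c g w = true) :
    elt n g * elt n c = elt n c * wordProd n gs w := by
  simp only [okMove, Bool.and_eq_true] at h
  simpa [wordProd] using weq_prod (List.Forall₂.cons (elt_isCode hge) (forall₂_one (elt_isCode hc)))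
    (List.Forall₂.cons (elt_isCode hc) (wordCodes_spec hg h.1)) h.2

/-- each element of `gs` is a commutator of two words in `gs`, and the first is not `1` -/
def okWit (n : ℕ) (gs : List Elem) (ws : List (List ℕ × List ℕ)) : Bool :=
  gs.all (okE n) &&
    (match gs with | [] => false | g :: _ => !weq n [g.code] []) &&
    Nat.beq ws.length gs.length &&
    (gs.zip ws).all fun p => p.2.1.all (fun a => Nat.blt a gs.length) &&
      p.2.2.all (fun a => Nat.blt a gs.length) &&
      weq n (p.1.code :: (wordCodes gs p.2.2 ++ wordCodes gs p.2.1))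
        (wordCodes gs p.2.1 ++ wordCodes gs p.2.2)

theorem not_solvable_of_wit {gs : List Elem} {ws : List (List ℕ × List ℕ)}
    (h : okWit n gs ws = true) {S : Subgroup (Alt n)} (hS : ∀ g ∈ gs, elt n g ∈ S) :
    ¬ Group.IsSolvable S := by
  intro hsol
  simp only [okWit, Bool.and_eq_true] at h
  obtain ⟨⟨⟨hok, hne⟩, hlen⟩, hws⟩ := h
  simp only [List.all_eq_true] at hok
  let H : Subgroup S := Subgroup.closure {x | ∃ g ∈ gs, (x : Alt n) = elt n g}
  have hH : ∀ g, ∀ hg : g ∈ gs, (⟨elt n g, hS g hg⟩ : S) ∈ H :=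
    fun g hg => Subgroup.subset_closure ⟨g, hg, rfl⟩
  have hw : ∀ w : List ℕ, w.all (fun a => Nat.blt a gs.length) = true →
      ∃ x ∈ H, (x : Alt n) = wordProd n gs w := by
    intro w hw
    induction w with
    | nil => exact ⟨1, H.one_mem, rfl⟩
    | cons a w ih =>
      simp only [List.all_cons, Bool.and_eq_true] at hw
      obtain ⟨x, hx, hxe⟩ := ih hw.2
      exact ⟨⟨_, hS _ (getD_mem hw.1)⟩ * x, H.mul_mem (hH _ (getD_mem hw.1)) hx, by simp [wordProd, hxe]⟩
  have hperf : H ≤ ⁅H, H⁆ := by
    refine (Subgroup.closure_le _).2 ?_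
    rintro x ⟨g, hg, hxg⟩
    obtain ⟨i, hi, hgi⟩ := List.getElem_of_mem hg
    have hiw : i < ws.length := by rw [nbeq_iff.1 hlen]; exact hi
    have hz := List.all_eq_true.1 hws _
      (List.getElem_mem (show i < (gs.zip ws).length by simp [hi, hiw]))
    simp only [List.getElem_zip, hgi, Bool.and_eq_true] at hz
    obtain ⟨⟨ha, hb⟩, he⟩ := hz
    have he' := weq_prod
      (List.Forall₂.cons (elt_isCode (hok g hg))
        (List.rel_append (wordCodes_spec hok hb) (wordCodes_spec hok ha)))
      (List.rel_append (wordCodes_spec hok ha) (wordCodes_spec hok hb)) he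
    simp only [List.prod_cons, List.prod_append] at he'
    obtain ⟨A, hA, hAe⟩ := hw _ ha
    obtain ⟨B, hB, hBe⟩ := hw _ hb
    have key : x = A * B * A⁻¹ * B⁻¹ := by
      have : x * (B * A) = A * B := Subtype.ext <| by
        simpa [hxg, hAe, hBe, wordProd] using he'
      calc x = x * (B * A) * (A⁻¹ * B⁻¹) := by group
        _ = A * B * A⁻¹ * B⁻¹ := by rw [this]; group
    rw [SetLike.mem_coe, key]
    exact Subgroup.commutator_mem_commutator hA hB
  have hbot : H ≠ ⊥ := by
    cases gs with
    | nil => simp at hne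
    | cons g l =>
      intro hb
      have h1 := hH g (List.mem_cons_self ..)
      rw [hb, Subgroup.mem_bot] at h1
      have h2 : elt n g = 1 := congrArg Subtype.val h1
      have : weq n [g.code] [] = true := by
        rw [weq, List.all_eq_true]
        intro k hk
        have := elt_isCode (hok g (List.mem_cons_self ..)) ⟨k, List.mem_range.1 hk⟩
        rw [h2] at this
        simpa [ev, nbeq_iff] using this
      simp [this] at hne
  exact absurd hperf (not_le_of_gt (Group.IsSolvable.commutator_lt_of_ne_bot hbot))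

/-- lists of seeds with witnesses -/
def okWits (n : ℕ) (hs : List (List Elem)) (ws : List (List (List ℕ × List ℕ))) : Bool :=
  Nat.beq ws.length hs.length && (hs.zip ws).all fun p => okWit n p.1 p.2

theorem noFix_of_wits {hs : List (List Elem)} {ws : List (List (List ℕ × List ℕ))}
    (h : okWits n hs ws = true) (hns : NSFree ρ) : NoFix ρ hs := by
  intro s hs' x hx
  simp only [okWits, Bool.and_eq_true] at h
  obtain ⟨i, hi, rfl⟩ := List.getElem_of_mem hs'
  have hiw : i < ws.length := by rw [nbeq_iff.1 h.1]; exact hi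
  have hz := List.all_eq_true.1 h.2 _
    (List.getElem_mem (show i < (hs.zip ws).length by simp [hi, hiw]))
  rw [List.getElem_zip] at hz
  exact hns x (not_solvable_of_wit hz fun g hg => hx g hg)

theorem noFix_append {a b : List (List Elem)} (ha : NoFix ρ a) (hb : NoFix ρ b) :
    NoFix ρ (a ++ b) := fun s hs => (List.mem_append.1 hs).elim (ha s) (hb s)

end CfsgLib.AltModFixed
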