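import Mathlib.GroupTheory.SpecificGroups.Alternating
import Mathlib.GroupTheory.Solvable
import Mathlib.Algebra.Group.Hom.End
import Mathlib.Algebra.BigOperators.Fin
import Mathlib.Data.List.GetD
import Mathlib.Tactic.Abel
import Mathlib.Tactic.Ring

/-!
# Certificates for fixed vectors of modules of alternating groups

A module for `Alt(n)` killed by a prime `q`, in which none of a given list of subgroups has a
non-zero fixed vector, and a vector `v` which is an eigenvector for some elements. A certificate
is a combination of orbit sums of these subgroups that is a non-zero multiple of `P v`.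

Permutations are packed in natural numbers, four bits for each point.
-/

set_option autoImplicit false

namespace CfsgLib.AltModFixed

open Equiv

abbrev Alt (n : ℕ) : Type := ↥(alternatingGroup (Fin n))

theorem nbeq_iff {a b : ℕ} : Nat.beq a b = true ↔ a = b :=
  ⟨Nat.eq_of_beq_eq_true, fun h => h ▸ Nat.beq_refl a⟩

theorem nbeq_false {a b : ℕ} : Nat.beq a b = false ↔ a ≠ b := by
  rw [← Bool.not_eq_true, nbeq_iff]

/-- the image of `i` under the packed permutation `c` -/
def gd (c i : ℕ) : ℕ := Nat.land (Nat.shiftRight c (4 * i)) 15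

/-- the image of `k` under a word of packed permutations -/
def ev (w : List ℕ) (k : ℕ) : ℕ := w.foldr gd k

/-- two words give the same map on `0, …, n-1` -/
def weq (n : ℕ) (u w : List ℕ) : Bool := (List.range n).all fun k => Nat.beq (ev u k) (ev w k)

def IsCode {n : ℕ} (g : Alt n) (c : ℕ) : Prop :=
  ∀ k : Fin n, gd c (k : ℕ) = (((g : Perm (Fin n)) k : Fin n) : ℕ)

theorem ev_prod {n : ℕ} {gs : List (Alt n)} {cs : List ℕ} (h : List.Forall₂ IsCode gs cs)
    (k : Fin n) : ev cs (k : ℕ) = (((gs.prod : Alt n) : Perm (Fin n)) k : ℕ) := by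
  induction h with
  | nil => simp [ev]
  | cons h1 h2 ih =>
    rw [ev, List.foldr_cons, ← ev, ih, h1, List.prod_cons]
    simp [Perm.mul_apply]

theorem weq_prod {n : ℕ} {gs hs : List (Alt n)} {cs ds : List ℕ}
    (h : List.Forall₂ IsCode gs cs) (h' : List.Forall₂ IsCode hs ds) (he : weq n cs ds = true) :
    gs.prod = hs.prod := by
  apply Subtype.ext
  refine Equiv.ext fun k => Fin.ext ?_
  rw [← ev_prod h, ← ev_prod h']
  exact Nat.eq_of_beq_eq_true (List.all_eq_true.1 he _ (List.mem_range.2 k.2))

theorem weq_code {n : ℕ} {gs : List (Alt n)} {cs : List ℕ} {c : ℕ}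
    (h : List.Forall₂ IsCode gs cs) (he : weq n [c] cs = true) : IsCode gs.prod c := by
  intro k
  rw [← ev_prod h k, ← Nat.eq_of_beq_eq_true (List.all_eq_true.1 he _ (List.mem_range.2 k.2))]
  rfl

/-! ### elements given by transpositions -/

/-- an element: its code and a list of packed transpositions with that product -/
structure Elem where
  code : ℕ
  sw : List ℕ

def swN (t k : ℕ) : ℕ :=
  bif Nat.beq k (t % 16) then t / 16 else bif Nat.beq k (t / 16) then t % 16 else k

def okE (n : ℕ) (e : Elem) : Bool :=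
  Nat.beq (e.sw.length % 2) 0 &&
    e.sw.all (fun t => Nat.blt (t % 16) n && Nat.blt (t / 16) n && !Nat.beq (t % 16) (t / 16)) &&
    (List.range n).all fun k => Nat.beq (gd e.code k) (e.sw.foldr swN k)

def swP (n : ℕ) (t : ℕ) : Perm (Fin n) :=
  if h : t % 16 < n ∧ t / 16 < n then swap ⟨t % 16, h.1⟩ ⟨t / 16, h.2⟩ else 1

open Classical in
noncomputable def elt (n : ℕ) (e : Elem) : Alt n :=
  if h : (e.sw.map (swP n)).prod ∈ alternatingGroup (Fin n) then ⟨_, h⟩ else 1

theorem elt_isCode {n : ℕ} {e : Elem} (h : okE n e = true) : IsCode (elt n e) e.code := by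
  simp only [okE, Bool.and_eq_true, List.all_eq_true, Bool.not_eq_true', List.mem_range] at h
  obtain ⟨⟨h1, h2⟩, h3⟩ := h
  have key : ∀ l : List ℕ, (∀ t ∈ l, t % 16 < n ∧ t / 16 < n ∧ t % 16 ≠ t / 16) →
      (∀ g ∈ l.map (swP n), g.IsSwap) ∧
      ∀ k : Fin n, (((l.map (swP n)).prod k : Fin n) : ℕ) = l.foldr swN k := by
    intro l hl
    induction l with
    | nil => simp
    | cons t l ih =>
      obtain ⟨ha, hb, hc⟩ := hl t (List.mem_cons_self ..)
      obtain ⟨i1, i2⟩ := ih fun s hs => hl s (List.mem_cons_of_mem _ hs)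
      have hsw : swP n t = swap ⟨t % 16, ha⟩ ⟨t / 16, hb⟩ := dif_pos ⟨ha, hb⟩
      refine ⟨?_, fun k => ?_⟩
      · intro g hg
        rcases List.mem_cons.1 hg with rfl | hg
        · exact ⟨_, _, fun he => hc (Fin.mk.inj he), hsw⟩
        · exact i1 g hg
      · rw [List.map_cons, List.prod_cons, Perm.mul_apply, hsw, List.foldr_cons, ← i2]
        generalize (l.map (swP n)).prod k = y
        by_cases y1 : (y : ℕ) = t % 16
        · rw [show y = ⟨t % 16, ha⟩ from Fin.ext y1, swap_apply_left]
          simp [swN, nbeq_iff.2 rfl]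
        · by_cases y2 : (y : ℕ) = t / 16
          · rw [show y = ⟨t / 16, hb⟩ from Fin.ext y2, swap_apply_right]
            simp [swN, nbeq_iff.2 rfl, nbeq_false.2 (Ne.symm hc)]
          · rw [swap_apply_of_ne_of_ne (fun he => y1 (congrArg Fin.val he))
              (fun he => y2 (congrArg Fin.val he))]
            simp [swN, nbeq_false.2 y1, nbeq_false.2 y2]
  have hl : ∀ t ∈ e.sw, t % 16 < n ∧ t / 16 < n ∧ t % 16 ≠ t / 16 := by
    intro t ht
    have := h2 t ht
    refine ⟨by simpa using this.1.1, by simpa using this.1.2, fun he => ?_⟩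
    simp [he, nbeq_iff.2 rfl] at this
  obtain ⟨k1, k2⟩ := key _ hl
  have hmem : (e.sw.map (swP n)).prod ∈ alternatingGroup (Fin n) := by
    rw [Perm.prod_list_swap_mem_alternatingGroup_iff_even_length k1, List.length_map]
    exact Nat.even_iff.2 (Nat.eq_of_beq_eq_true h1)
  intro k
  rw [elt, dif_pos hmem, k2 k]
  exact Nat.eq_of_beq_eq_true (h3 k k.2)

/-! ### trees -/

inductive BT (α : Type) : Type
  | leaf : α → BT α
  | node : BT α → BT α → BT α

namespace BT

variable {α : Type}

def get : BT α → ℕ → α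
  | leaf a, _ => a
  | node l r, i => bif Nat.beq (i % 2) 0 then l.get (i / 2) else r.get (i / 2)

def all (f : α → Bool) : BT α → Bool
  | leaf a => f a
  | node l r => l.all f && r.all f

theorem get_of_all {f : α → Bool} {T : BT α} (h : T.all f = true) (i : ℕ) :
    f (T.get i) = true := by
  induction T generalizing i with
  | leaf a => exact h
  | node l r ihl ihr =>
    simp only [all, Bool.and_eq_true] at h
    simp only [get]
    cases Nat.beq (i % 2) 0
    · exact ihr h.2 _
    · exact ihl h.1 _

def mapB {β : Type} (f : α → β) : BT α → BT β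
  | leaf a => leaf (f a)
  | node l r => node (l.mapB f) (r.mapB f)

theorem get_mapB {β : Type} (f : α → β) (T : BT α) (i : ℕ) : (T.mapB f).get i = f (T.get i) := by
  induction T generalizing i with
  | leaf a => rfl
  | node l r ihl ihr => simp only [mapB, get]; cases Nat.beq (i % 2) 0 <;> simp [ihl, ihr]

/-- add `c` to the counter at index `i` -/
def upd : BT (α × ℕ) → ℕ → ℕ → BT (α × ℕ)
  | leaf a, _, c => leaf (a.1, a.2 + c)
  | node l r, i, c =>
    bif Nat.beq (i % 2) 0 then node (l.upd (i / 2) c) r else node l (r.upd (i / 2) c)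

end BT

/-! ### certificates -/

/-- an element written as a word in the generators, with its eigenvalue -/
structure Row where
  code : ℕ
  r : ℕ
  word : List ℕ

/-- a representative; `kind = 1`: the identity; `kind = 2`: killed by the witness `wl, wr` -/
structure Leaf where
  e : Elem
  kind : ℕ
  wl : ℕ
  wr : ℕ

/-- an orbit of the conjugate of a seed under `p` -/
structure Rel where
  seed : ℕ
  p : Elem
  hc : List ℕ
  α : ℕ
  ents : List ℕ

structure Cert where
  gens : List (Elem × ℕ)
  lgens : List (Elem × ℕ)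
  L : BT Row
  R : BT Row
  T : BT Leaf
  rels : List Rel

def field (x s w : ℕ) : ℕ := Nat.land (Nat.shiftRight x s) (2 ^ w - 1)

def eBl (x : ℕ) : ℕ := field x 0 10
def eT (x : ℕ) : ℕ := field x 10 12
def eBr (x : ℕ) : ℕ := field x 22 10
def eW (x : ℕ) : ℕ := field x 32 3
def eJ (x k : ℕ) : ℕ := field x (35 + 19 * k) 9
def eB (x k : ℕ) : ℕ := field x (44 + 19 * k) 10

def default₀ : Elem × ℕ := (⟨0, []⟩, 1)

def okRow (n q : ℕ) (gens : List (Elem × ℕ)) (ρ : Row) : Bool :=
  ρ.word.all (fun a => Nat.blt a gens.length) &&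
    weq n [ρ.code] (ρ.word.map fun a => (gens.getD a default₀).1.code) &&
    Nat.beq (ρ.r % q) ((ρ.word.map fun a => (gens.getD a default₀).2).prod % q)

def okLeaf (n q : ℕ) (L R : BT Row) (l : Leaf) : Bool :=
  okE n l.e &&
    bif Nat.beq l.kind 1 then weq n [l.e.code] []
    else bif Nat.beq l.kind 2 then
      weq n [(L.get l.wl).code, l.e.code] [l.e.code, (R.get l.wr).code] &&
        !Nat.beq ((L.get l.wl).r % q) ((R.get l.wr).r % q)
    else true

def code3 (C : Cert) (x : ℕ) : List ℕ :=
  [(C.L.get (eBl x)).code, (C.T.get (eT x)).e.code, (C.R.get (eBr x)).code]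

def okEdge (n q : ℕ) (C : Cert) (ents : List ℕ) (h k x : ℕ) : Bool :=
  Nat.blt (eJ x k) ents.length &&
    weq n (h :: code3 C x) (code3 C (ents.getD (eJ x k) 0) ++ [(C.R.get (eB x k)).code]) &&
    Nat.beq ((eW x * (C.R.get (eB x k)).r) % q) (eW (ents.getD (eJ x k) 0) % q)

def okGen (n q : ℕ) (C : Cert) (ents : List ℕ) (p : ℕ) : ℕ → List ℕ → List Elem → Bool
  | k, h :: hs, s :: ss =>
    okE n s && weq n [h, p] [p, s.code] &&
      ents.all (okEdge n q C ents h k) &&
      (List.range ents.length).all (fun j => (ents.map (fun x => eJ x k)).contains j) &&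
      okGen n q C ents p (k + 1) hs ss
  | _, [], [] => true
  | _, _, _ => false

def okRel (n q : ℕ) (C : Cert) (seeds : List (List Elem)) (rel : Rel) : Bool :=
  Nat.blt rel.seed seeds.length && okE n rel.p &&
    okGen n q C rel.ents rel.p.code 0 rel.hc (seeds.getD rel.seed [])

def contrib (C : Cert) (α x : ℕ) : ℕ :=
  α * eW x * (C.L.get (eBl x)).r * (C.R.get (eBr x)).r

def accRel (C : Cert) (S : BT (Leaf × ℕ)) (rel : Rel) : BT (Leaf × ℕ) :=
  rel.ents.foldl (fun S x => S.upd (eT x) (contrib C rel.α x)) S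

def total (C : Cert) : BT (Leaf × ℕ) :=
  C.rels.foldl (accRel C) (C.T.mapB fun l => (l, 0))

def finCount : BT (Leaf × ℕ) → ℕ
  | BT.leaf a => bif Nat.beq a.1.kind 1 then a.2 else 0
  | BT.node l r => finCount l + finCount r

def ok (n q : ℕ) (seeds : List (List Elem)) (C : Cert) : Bool :=
  C.gens.all (fun g => okE n g.1) && C.lgens.all (fun g => okE n g.1) &&
    C.R.all (okRow n q C.gens) && C.L.all (okRow n q C.lgens) && C.T.all (okLeaf n q C.L C.R) &&
    C.rels.all (okRel n q C seeds) &&
    (total C).all (fun a => Nat.beq a.1.kind 1 || Nat.beq a.1.kind 2 || Nat.beq (a.2 % q) 0) &&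
    !Nat.beq (finCount (total C) % q) 0

/-- the part of `ok` which does not look at single relations -/
def okBase (n q : ℕ) (C : Cert) : Bool :=
  C.gens.all (fun g => okE n g.1) && C.lgens.all (fun g => okE n g.1) &&
    C.R.all (okRow n q C.gens) && C.L.all (okRow n q C.lgens) && C.T.all (okLeaf n q C.L C.R) &&
    (total C).all (fun a => Nat.beq a.1.kind 1 || Nat.beq a.1.kind 2 || Nat.beq (a.2 % q) 0) &&
    !Nat.beq (finCount (total C) % q) 0

theorem ok_intro {n q : ℕ} {seeds : List (List Elem)} {C : Cert} (h : okBase n q C = true)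
    (hr : C.rels.all (okRel n q C seeds) = true) : ok n q seeds C = true := by
  simp only [okBase, Bool.and_eq_true] at h
  simp only [ok, Bool.and_eq_true]
  tauto

/-! ### soundness -/

section

variable {n q : ℕ} {V : Type*} [AddCommGroup V] (ρ : Alt n →* AddMonoid.End V)

theorem act_mul (g h : Alt n) (x : V) : ρ (g * h) x = ρ g (ρ h x) := by rw [map_mul]; rfl

theorem act_one (x : V) : ρ 1 x = x := by rw [map_one]; rfl

theorem act_cancel (g : Alt n) (x : V) : ρ g (ρ g⁻¹ x) = x := by
  rw [← act_mul, mul_inv_cancel, act_one]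

theorem act_cancel' (g : Alt n) (x : V) : ρ g⁻¹ (ρ g x) = x := by
  rw [← act_mul, inv_mul_cancel, act_one]

theorem nsmul_congr (hq : ∀ x : V, q • x = 0) {a b : ℕ} (h : a % q = b % q) (x : V) :
    a • x = b • x := by
  have : ∀ c : ℕ, c • x = (c % q) • x := fun c => by
    conv_lhs => rw [← Nat.mod_add_div c q, add_nsmul, mul_nsmul, hq, nsmul_zero, add_zero]
  rw [this a, this b, h]

theorem nsmul_mod (hq : ∀ x : V, q • x = 0) (a : ℕ) (x : V) : (a % q) • x = a • x :=
  nsmul_congr hq (Nat.mod_mod a q) x

theorem eq_zero_of_nsmul (hp : q.Prime) (hq : ∀ x : V, q • x = 0) {a : ℕ} (ha : a % q ≠ 0)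
    {x : V} (h : a • x = 0) : x = 0 := by
  have hc : Nat.Coprime a q := (Nat.Coprime.symm <| hp.coprime_iff_not_dvd.2 fun hd =>
    ha (Nat.mod_eq_zero_of_dvd hd))
  obtain ⟨b, hb⟩ := Nat.exists_mul_mod_eq_one_of_coprime hc hp.one_lt
  calc x = (a * b) • x := by
        rw [nsmul_congr hq (b := 1) (by rw [hb.2, Nat.one_mod_eq_one.2 hp.ne_one]), one_nsmul]
    _ = 0 := by rw [mul_nsmul, h, nsmul_zero]

theorem row_spec {gens : List (Elem × ℕ)} (hg : ∀ g ∈ gens, okE n g.1 = true) {r : Row}
    (h : okRow n q gens r = true) (motive : Alt n → ℕ → Prop) (h1 : motive 1 1)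
    (hm : ∀ g ∈ gens, ∀ a s, motive a s → motive (elt n g.1 * a) (g.2 * s)) :
    ∃ a s, IsCode a r.code ∧ r.r % q = s % q ∧ motive a s := by
  simp only [okRow, Bool.and_eq_true, List.all_eq_true] at h
  obtain ⟨⟨hw, hc⟩, hr⟩ := h
  have key : ∀ w : List ℕ, (∀ a ∈ w, Nat.blt a gens.length = true) →
      List.Forall₂ IsCode (w.map fun a => elt n (gens.getD a default₀).1)
        (w.map fun a => (gens.getD a default₀).1.code) ∧
      motive (w.map fun a => elt n (gens.getD a default₀).1).prod
        (w.map fun a => (gens.getD a default₀).2).prod := by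
    intro w hw
    induction w with
    | nil => exact ⟨List.Forall₂.nil, h1⟩
    | cons a w ih =>
      obtain ⟨i1, i2⟩ := ih fun b hb => hw b (List.mem_cons_of_mem _ hb)
      have hlt : a < gens.length := by simpa using hw a (List.mem_cons_self ..)
      have hmem : gens.getD a default₀ ∈ gens := by
        rw [List.getD_eq_getElem _ _ hlt]; exact List.getElem_mem hlt
      exact ⟨List.Forall₂.cons (elt_isCode (hg _ hmem)) i1, hm _ hmem _ _ i2⟩
  obtain ⟨k1, k2⟩ := key _ hw
  exact ⟨_, _, weq_code k1 hc, Nat.eq_of_beq_eq_true hr, k2⟩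

/-- the value of a tree of counters -/
noncomputable def val (P : V →+ V) (v : V) : BT (Leaf × ℕ) → V
  | BT.leaf a => a.2 • P (ρ (elt n a.1.e) v)
  | BT.node l r => val P v l + val P v r

theorem val_upd (P : V →+ V) (v : V) (S : BT (Leaf × ℕ)) (i c : ℕ) :
    val ρ P v (S.upd i c) = val ρ P v S + c • P (ρ (elt n (S.get i).1.e) v) := by
  induction S generalizing i with
  | leaf a => simp [BT.upd, BT.get, val, add_nsmul]
  | node l r ihl ihr =>
    simp only [BT.upd, BT.get, val]
    cases Nat.beq (i % 2) 0
    · simp only [cond_false, val, ihr]; abel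
    · simp only [cond_true, val, ihl]; abel

theorem mapB_upd (S : BT (Leaf × ℕ)) (i c : ℕ) :
    (S.upd i c).mapB Prod.fst = S.mapB Prod.fst := by
  induction S generalizing i with
  | leaf a => rfl
  | node l r ihl ihr => simp only [BT.upd]; cases Nat.beq (i % 2) 0 <;> simp [BT.mapB, ihl, ihr]

theorem mapB_zero (T : BT Leaf) : (T.mapB fun l => (l, (0 : ℕ))).mapB Prod.fst = T := by
  induction T with
  | leaf a => rfl
  | node l r ihl ihr => simp [BT.mapB, ihl, ihr]

theorem val_zero (P : V →+ V) (v : V) (T : BT Leaf) :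
    val ρ P v (T.mapB fun l => (l, (0 : ℕ))) = 0 := by
  induction T with
  | leaf a => simp [BT.mapB, val]
  | node l r ihl ihr => simp [BT.mapB, val, ihl, ihr]

theorem all_of_mapB {f : Leaf → Bool} {S : BT (Leaf × ℕ)}
    (h : (S.mapB Prod.fst).all f = true) : S.all (fun a => f a.1) = true := by
  induction S with
  | leaf a => exact h
  | node l r ihl ihr =>
    simp only [BT.mapB, BT.all, Bool.and_eq_true] at h ⊢
    exact ⟨ihl h.1, ihr h.2⟩

theorem val_eq_finCount {P : V →+ V} {v : V} (hq : ∀ x : V, q • x = 0) {S : BT (Leaf × ℕ)}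
    (h1 : S.all (fun a => Nat.beq a.1.kind 1 || Nat.beq a.1.kind 2 || Nat.beq (a.2 % q) 0) = true)
    (h2 : ∀ l : Leaf, l.kind = 1 → okE n l.e = true → weq n [l.e.code] [] = true →
      elt n l.e = 1) {L R : BT Row} (h3 : S.all (fun a => okLeaf n q L R a.1) = true)
    (h4 : ∀ l : Leaf, l.kind = 2 → okLeaf n q L R l = true → P (ρ (elt n l.e) v) = 0) :
    val ρ P v S = finCount S • P v := by
  induction S with
  | node l r ihl ihr =>
    simp only [BT.all, Bool.and_eq_true] at h1 h3
    rw [val, finCount, add_nsmul, ihl h1.1 h3.1, ihr h1.2 h3.2]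
  | leaf a =>
    simp only [BT.all, Bool.or_eq_true] at h1 h3
    rw [val, finCount]
    by_cases k1 : a.1.kind = 1
    · have h3' := h3
      simp only [okLeaf, k1, Bool.and_eq_true] at h3'
      rw [k1, h2 a.1 k1 h3'.1 (by simpa using h3'.2), act_one]
      rfl
    · rw [nbeq_false.2 k1, cond_false, zero_nsmul]
      by_cases k2 : a.1.kind = 2
      · rw [h4 a.1 k2 h3, nsmul_zero]
      · rcases h1 with (h | h) | h
        · exact absurd (Nat.eq_of_beq_eq_true h) k1
        · exact absurd (Nat.eq_of_beq_eq_true h) k2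
        · rw [← nsmul_mod hq, Nat.eq_of_beq_eq_true h, zero_nsmul]

/-- `x = 0` whenever the elements of some seed fix `x` -/
def NoFix (seeds : List (List Elem)) : Prop :=
  ∀ s ∈ seeds, ∀ x : V, (∀ h ∈ s, ρ (elt n h) x = x) → x = 0

theorem forall₂_one {g : Alt n} {c : ℕ} (h : IsCode g c) : List.Forall₂ IsCode [g] [c] :=
  List.Forall₂.cons h List.Forall₂.nil

theorem sound (hp : q.Prime) (hq : ∀ x : V, q • x = 0) {seeds : List (List Elem)} {C : Cert}
    (hok : ok n q seeds C = true) (hseeds : NoFix ρ seeds) (P : V →+ V)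
    (hP : ∀ g ∈ C.lgens, ∀ x, P (ρ (elt n g.1) x) = g.2 • P x) (v : V)
    (hv : ∀ g ∈ C.gens, ρ (elt n g.1) v = g.2 • v) : P v = 0 := by
  simp only [ok, Bool.and_eq_true, Bool.not_eq_true'] at hok
  obtain ⟨⟨⟨⟨⟨⟨⟨hg, hlg⟩, hR⟩, hL⟩, hT⟩, hrels⟩, htot⟩, hfin⟩ := hok
  simp only [List.all_eq_true] at hg hlg hrels
  have hRr : ∀ i, ∃ a : Alt n, IsCode a (C.R.get i).code ∧ ρ a v = (C.R.get i).r • v := by
    intro i
    obtain ⟨a, s, ha, hs, hm⟩ := row_spec hg (BT.get_of_all hR i) (fun a s => ρ a v = s • v)
      (by rw [act_one, one_nsmul])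
      (fun g hgm a s has => by rw [act_mul, has, map_nsmul, hv g hgm, mul_nsmul])
    exact ⟨a, ha, by rw [hm, nsmul_congr hq hs]⟩
  have hLr : ∀ i, ∃ a : Alt n, IsCode a (C.L.get i).code ∧
      ∀ x, P (ρ a x) = (C.L.get i).r • P x := by
    intro i
    obtain ⟨a, s, ha, hs, hm⟩ := row_spec hlg (BT.get_of_all hL i)
      (fun a s => ∀ x, P (ρ a x) = s • P x) (fun x => by rw [act_one, one_nsmul])
      (fun g hgm a s has x => by
        rw [act_mul, hP g hgm, has, ← mul_nsmul, Nat.mul_comm])
    exact ⟨a, ha, fun x => by rw [hm, nsmul_congr hq hs]⟩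
  choose Ra hRc hRv using hRr
  choose La hLc hLv using hLr
  have hTc : ∀ i, IsCode (elt n (C.T.get i).e) (C.T.get i).e.code := by
    intro i
    have := BT.get_of_all hT i
    simp only [okLeaf, Bool.and_eq_true] at this
    exact elt_isCode this.1
  have h2 : ∀ l : Leaf, l.kind = 1 → okE n l.e = true → weq n [l.e.code] [] = true →
      elt n l.e = 1 := by
    intro l _ hl hw
    simpa using weq_prod (forall₂_one (elt_isCode hl)) List.Forall₂.nil hw
  have h4 : ∀ l : Leaf, l.kind = 2 → okLeaf n q C.L C.R l = true →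
      P (ρ (elt n l.e) v) = 0 := by
    intro l hk hl
    simp only [okLeaf, hk, Bool.and_eq_true] at hl
    obtain ⟨he, hw⟩ := hl
    simp only [show Nat.beq 2 1 = false from rfl, show Nat.beq 2 2 = true from rfl, cond_false,
      cond_true, Bool.and_eq_true, Bool.not_eq_true'] at hw
    have hc := elt_isCode he
    have h := weq_prod (List.Forall₂.cons (hLc l.wl) (forall₂_one hc))
      (List.Forall₂.cons hc (forall₂_one (hRc l.wr))) hw.1
    simp only [List.prod_cons, List.prod_nil, mul_one] at h
    have h5 : (C.L.get l.wl).r • P (ρ (elt n l.e) v) =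
        (C.R.get l.wr).r • P (ρ (elt n l.e) v) := by
      rw [← hLv, ← act_mul, h, act_mul, hRv, map_nsmul, map_nsmul]
    have hne : (C.L.get l.wl).r % q ≠ (C.R.get l.wr).r % q := by
      intro e; simp [e, nbeq_iff.2 rfl] at hw
    generalize P (ρ (elt n l.e) v) = y at h5
    generalize (C.L.get l.wl).r = a at h5 hne
    generalize (C.R.get l.wr).r = b at h5 hne
    rcases le_total (a % q) (b % q) with hle | hle
    · refine eq_zero_of_nsmul hp hq (a := b % q - a % q) ?_ ?_
      · have := Nat.mod_lt b hp.pos; rw [Nat.mod_eq_of_lt (by omega)]; omega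
      · have e : (b % q - a % q) • y + (a % q) • y = (a % q) • y := by
          rw [← add_nsmul, Nat.sub_add_cancel hle, nsmul_mod hq, nsmul_mod hq, h5]
        simpa using e
    · refine eq_zero_of_nsmul hp hq (a := a % q - b % q) ?_ ?_
      · have := Nat.mod_lt a hp.pos; rw [Nat.mod_eq_of_lt (by omega)]; omega
      · have e : (a % q - b % q) • y + (b % q) • y = (b % q) • y := by
          rw [← add_nsmul, Nat.sub_add_cancel hle, nsmul_mod hq, nsmul_mod hq, h5]
        simpa using e
  let el : ℕ → Alt n := fun x => La (eBl x) * (elt n (C.T.get (eT x)).e * Ra (eBr x))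
  have hel : ∀ x, List.Forall₂ IsCode
      [La (eBl x), elt n (C.T.get (eT x)).e, Ra (eBr x)] (code3 C x) := fun x =>
    List.Forall₂.cons (hLc _) (List.Forall₂.cons (hTc _) (forall₂_one (hRc _)))
  -- every relation is zero
  have hrel : ∀ rel ∈ C.rels, ((rel.ents.map fun x => eW x • ρ (el x) v).sum : V) = 0 := by
    intro rel hr
    have hor := hrels rel hr
    simp only [okRel, Bool.and_eq_true] at hor
    obtain ⟨⟨hsl, hpe⟩, hgen⟩ := hor
    have hlt : rel.seed < seeds.length := by simpa using hsl
    have hsm : seeds.getD rel.seed [] ∈ seeds := by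
      rw [List.getD_eq_getElem _ _ hlt]; exact List.getElem_mem hlt
    set p := elt n rel.p
    set x₀ := (rel.ents.map fun x => eW x • ρ (el x) v).sum
    have key : ∀ (hs : List ℕ) (ss : List Elem) (k : ℕ),
        okGen n q C rel.ents rel.p.code k hs ss = true →
          ∀ s ∈ ss, ρ (elt n s) (ρ p⁻¹ x₀) = ρ p⁻¹ x₀ := by
      intro hs
      induction hs with
      | nil =>
        intro ss k h s hs
        cases ss with
        | nil => simp at hs
        | cons a l => simp [okGen] at h
      | cons c hs ih =>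
        intro ss k h
        cases ss with
        | nil => simp [okGen] at h
        | cons a ss =>
          simp only [okGen, Bool.and_eq_true] at h
          obtain ⟨⟨⟨⟨hse, hconj⟩, hedge⟩, hsur⟩, hrest⟩ := h
          intro s hs'
          rcases List.mem_cons.1 hs' with rfl | hs'
          swap
          · exact ih ss (k + 1) hrest s hs'
          have hcode : IsCode (p * elt n s * p⁻¹) c := by
            intro i
            have h1 := Nat.eq_of_beq_eq_true (List.all_eq_true.1 hconj
              ((((p⁻¹ : Alt n) : Perm (Fin n)) i : Fin n) : ℕ) (List.mem_range.2 (Fin.is_lt _)))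
            simp only [ev, List.foldr_cons, List.foldr_nil] at h1
            rw [elt_isCode hpe, elt_isCode hse, elt_isCode hpe] at h1
            simpa [p, Perm.mul_apply] using h1
          have hx : ρ (p * elt n s * p⁻¹) x₀ = x₀ := by
            simp only [List.all_eq_true] at hedge hsur
            let m := rel.ents.length
            let e : Fin m → ℕ := fun i => rel.ents[(i : ℕ)]
            have hj : ∀ i : Fin m, eJ (e i) k < m := by
              intro i
              have := hedge _ (List.getElem_mem i.2)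
              simp only [okEdge, Bool.and_eq_true] at this
              simpa [e, m] using this.1.1
            let f : Fin m → Fin m := fun i => ⟨eJ (e i) k, hj i⟩
            have hf : Function.Surjective f := by
              intro j
              have := hsur (j : ℕ) (List.mem_range.2 j.2)
              simp only [List.contains_iff_mem, List.mem_map] at this
              obtain ⟨x, hx, hxj⟩ := this
              obtain ⟨i, hi, rfl⟩ := List.getElem_of_mem hx
              exact ⟨⟨i, hi⟩, Fin.ext hxj⟩
            have hb : Function.Bijective f := ⟨Finite.injective_iff_surjective.2 hf, hf⟩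
            have hsum : x₀ = ∑ i : Fin m, eW (e i) • ρ (el (e i)) v := by
              rw [← List.sum_ofFn]
              refine congrArg List.sum (List.ext_getElem (by simp [m]) fun i h1 h2 => ?_)
              simp [e]
            rw [hsum, map_sum]
            refine Fintype.sum_bijective f hb _ _ fun i => ?_
            have := hedge _ (List.getElem_mem i.2)
            simp only [okEdge, Bool.and_eq_true] at this
            obtain ⟨⟨-, hw⟩, hwt⟩ := this
            have hget : rel.ents.getD (eJ (e i) k) 0 = e (f i) :=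
              List.getD_eq_getElem _ _ (hj i)
            rw [hget] at hw hwt
            have h := weq_prod (List.Forall₂.cons hcode (hel (e i)))
              (List.rel_append (hel (e (f i))) (forall₂_one (hRc (eB (e i) k)))) hw
            simp only [List.prod_append, List.prod_cons, List.prod_nil, mul_one] at h
            rw [map_nsmul, ← act_mul, show el (e i) = _ from rfl, h, act_mul, hRv, map_nsmul,
              ← mul_nsmul, Nat.mul_comm]
            exact nsmul_congr hq (Nat.eq_of_beq_eq_true hwt) _
          calc ρ (elt n s) (ρ p⁻¹ x₀) = ρ p⁻¹ (ρ (p * elt n s * p⁻¹) x₀) := by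
                rw [← act_mul, ← act_mul]; congr 2; group
            _ = ρ p⁻¹ x₀ := by rw [hx]
    have h0 := hseeds _ hsm _ (key _ _ _ hgen)
    rw [← act_cancel ρ p x₀, h0, map_zero]
  -- the counters
  have hacc : ∀ (α : ℕ) (xs : List ℕ) (S : BT (Leaf × ℕ)), S.mapB Prod.fst = C.T →
      (xs.foldl (fun S x => S.upd (eT x) (contrib C α x)) S).mapB Prod.fst = C.T ∧
      val ρ P v (xs.foldl (fun S x => S.upd (eT x) (contrib C α x)) S) =
        val ρ P v S + α • P ((xs.map fun x => eW x • ρ (el x) v).sum) := by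
    intro α xs
    induction xs with
    | nil => intro S hS; exact ⟨hS, by simp⟩
    | cons x xs ih =>
      intro S hS
      obtain ⟨i1, i2⟩ := ih (S.upd (eT x) (contrib C α x)) (by rw [mapB_upd, hS])
      refine ⟨i1, ?_⟩
      simp only [List.foldl_cons, List.map_cons, List.sum_cons] at i2 ⊢
      have hget : (S.get (eT x)).1 = C.T.get (eT x) := by rw [← hS, BT.get_mapB]
      rw [i2, val_upd, hget, map_add, nsmul_add, add_assoc]
      congr 1
      refine congrArg (· + _) ?_
      rw [map_nsmul, show el x = _ from rfl, act_mul, hLv, act_mul, hRv, map_nsmul, map_nsmul,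
        ← mul_nsmul', ← mul_nsmul', ← mul_nsmul']
      refine congrArg (· • _) ?_
      rw [contrib]
  have htotal : (total C).mapB Prod.fst = C.T ∧ val ρ P v (total C) = 0 := by
    have : ∀ (rs : List Rel) (S : BT (Leaf × ℕ)), (∀ r ∈ rs, r ∈ C.rels) →
        S.mapB Prod.fst = C.T → val ρ P v S = 0 →
        (rs.foldl (accRel C) S).mapB Prod.fst = C.T ∧
          val ρ P v (rs.foldl (accRel C) S) = 0 := by
      intro rs
      induction rs with
      | nil => intro S _ h1 h2; exact ⟨h1, h2⟩
      | cons r rs ih =>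
        intro S hm h1 h2
        obtain ⟨a1, a2⟩ := hacc r.α r.ents S h1
        refine ih _ (fun s hs => hm s (List.mem_cons_of_mem _ hs)) a1 ?_
        rw [accRel, a2, h2, hrel r (hm r (List.mem_cons_self ..)), map_zero, nsmul_zero, add_zero]
    exact this _ _ (fun r hr => hr) (mapB_zero _) (val_zero ρ P v _)
  obtain ⟨hm, hval⟩ := htotal
  have hlv : (total C).all (fun a => okLeaf n q C.L C.R a.1) = true :=
    all_of_mapB (by rw [hm]; exact hT)
  rw [val_eq_finCount ρ hq htot h2 hlv h4] at hval
  exact eq_zero_of_nsmul hp hq (nbeq_false.1 hfin) hval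

end

end CfsgLib.AltModFixed
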