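import Cfsg.Agent.Lib.AltModFixed.FiveSeeds

/-! Certificate data for fixed vectors in modules of alternating groups. -/

set_option autoImplicit false
set_option maxRecDepth 20000

namespace CfsgLib.AltModFixed.Five7

def bTEEE : BT Row :=
  .node (.node (.node (.node (.node (.leaf ⟨654820258320, 1, []⟩) (.leaf ⟨509357335635, 1, [4, 2, 2, 0, 2, 0]⟩)) (.leaf ⟨654816904275, 4, [2, 2, 2, 0]⟩)) (.node (.leaf ⟨444685627425, 4, [4, 3, 0]⟩) (.leaf ⟨509360812320, 4, [4, 2, 2, 1, 0]⟩))) (.node (.node (.leaf ⟨654820196865, 1, [2, 2]⟩) (.leaf ⟨590144028690, 1, [3, 0, 2, 2]⟩)) (.node (.leaf ⟨654815921205, 4, [2, 1, 0, 0]⟩) (.leaf ⟨590142001170, 1, [3, 0, 2, 0, 2]⟩)))) (.node (.node (.node (.node (.leaf ⟨654816842580, 4, [2, 0]⟩) (.leaf ⟨509357335365, 1, [4, 2, 0, 2, 0, 2]⟩)) (.leaf ⟨509360812545, 4, [4, 2, 2, 1]⟩)) (.node (.leaf ⟨590138647875, 4, [3, 0, 2]⟩) (.leaf ⟨444685566240,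 4, [4, 3, 2, 2, 0]⟩))) (.node (.node (.leaf ⟨654819151905, 1, [1, 1, 0]⟩) (.leaf ⟨509357458485, 1, [4, 2, 1, 0, 0]⟩)) (.node (.leaf ⟨509360689185, 4, [4, 1, 1, 0]⟩) (.leaf ⟨444682274100, 1, [4, 3, 2, 2, 2]⟩))))

def bTEEO : BT Row :=
  .node (.node (.node (.node (.node (.leaf ⟨590144090640, 1, [3]⟩) (.leaf ⟨509356413765, 1, [4, 2, 0, 2, 2, 1]⟩)) (.leaf ⟨444684522000, 4, [4, 3, 1, 1]⟩)) (.node (.leaf ⟨590139753795, 4, [3, 2, 1]⟩) (.leaf ⟨509359706400, 4, [4, 2, 0, 2, 0]⟩))) (.node (.node (.leaf ⟨654818230530, 1, [1, 0, 0]⟩) (.leaf ⟨444685566465, 4, [4, 3, 2, 2]⟩)) (.node (.leaf ⟨590140675125, 4, [3, 2, 0, 0]⟩) (.leaf ⟨444683538945, 4, [4, 3, 2, 0, 2]⟩)))) (.node (.node (.node (.node (.leaf ⟨654815921475, 4, [2, 1]⟩) (.leaf ⟨444680246355, 1, [4, 3, 2, 2, 2, 1, 0]⟩)) (.leaf ⟨590142001665, 1, [3, 2, 0, 2]⟩)) (.node (.leaf ⟨590144029185, 1, [3, 2, 2]⟩) (.leaf ⟨590138709300,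 4, [3, 2, 2, 2, 1]⟩))) (.node (.node (.leaf ⟨654814815060, 4, [0, 2, 0]⟩) (.leaf ⟨444682212405, 1, [4, 3, 2, 0, 0]⟩)) (.node (.leaf ⟨444683599905, 4, [4, 3, 1, 0]⟩) (.leaf ⟨590138709075, 4, [3, 2, 2, 2, 1, 0]⟩))))

def bTEE : BT Row := .node bTEEE bTEEO

def bTEOE : BT Row :=
  .node (.node (.node (.node (.node (.leaf ⟨654818230800, 1, [1]⟩) (.leaf ⟨444682273875, 1, [4, 3, 2, 2, 2, 0]⟩)) (.leaf ⟨509361733920, 4, [4, 2, 2, 0]⟩)) (.node (.leaf ⟨509360689680, 4, [4, 1, 1]⟩) (.leaf ⟨654815798355, 4, [2, 2, 0, 2, 0]⟩))) (.node (.node (.leaf ⟨509358380355, 1, [4, 2]⟩) (.leaf ⟨590140736820, 4, [3, 2, 2, 2]⟩)) (.node (.leaf ⟨509359767810, 4, [4, 1, 0, 0]⟩) (.leaf ⟨590139630900, 4, [3, 2, 2, 0, 2]⟩)))) (.node (.node (.node (.node (.leaf ⟨509361795105, 4, [4, 0]⟩) (.leaf ⟨444681168180, 1, [4, 3, 2, 2, 0, 2]⟩)) (.leaf ⟨654818168850, 1, [0, 2, 0, 2]⟩)) (.node (.leaf ⟨654820196370,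 1, [0, 2, 2]⟩) (.leaf ⟨590143107090, 1, [3, 0, 2, 2, 1]⟩))) (.node (.node (.leaf ⟨590142062625, 1, [3, 1, 0]⟩) (.leaf ⟨590138647605, 4, [3, 0, 2, 0, 0]⟩)) (.node (.leaf ⟨590139753300, 4, [3, 2, 1, 0]⟩) (.leaf ⟨444681290805, 1, [4, 3, 2, 1, 0, 0]⟩))))

def bTEOO : BT Row :=
  .node (.node (.node (.node (.node (.leaf ⟨654820258050, 1, [0, 0]⟩) (.leaf ⟨444680246580, 1, [4, 3, 2, 2, 2, 1]⟩)) (.leaf ⟨654814876980, 4, [2, 2, 2, 1]⟩)) (.node (.leaf ⟨444683600400, 4, [4, 3, 1]⟩) (.leaf ⟨590140736595, 4, [3, 2, 2, 2, 0]⟩))) (.node (.node (.leaf ⟨590144090370, 1, [3, 0, 0]⟩) (.leaf ⟨509360689410, 4, [4, 1, 1, 0, 0]⟩)) (.node (.leaf ⟨444685627650, 4, [4, 3, 0, 0]⟩) (.leaf ⟨509358441285, 1, [4, 2, 0, 2, 2]⟩)))) (.node (.node (.node (.node (.leaf ⟨509359768080, 4, [4, 1]⟩) (.leaf ⟨444680246085, 1, [4, 3, 2, 0, 2, 2, 1]⟩)) (.leaf ⟨444680185155, 1, [4, 3, 0, 2]⟩)) (.node (.leaf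 ⟨444682212675, 1, [4, 3, 2]⟩) (.leaf ⟨444684644865, 4, [4, 3, 2, 2, 1]⟩))) (.node (.node (.leaf ⟨590140674900, 4, [3, 2, 0]⟩) (.leaf ⟨654814876755, 4, [2, 2, 2, 1, 0]⟩)) (.node (.leaf ⟨590138647380, 4, [3, 0, 2, 0]⟩) (.leaf ⟨444684644640, 4, [4, 3, 2, 2, 1, 0]⟩))))

def bTEO : BT Row := .node bTEOE bTEOO

def bTE : BT Row := .node bTEE bTEO

def bTOEE : BT Row :=
  .node (.node (.node (.node (.node (.leaf ⟨654820257825, 1, [0]⟩) (.leaf ⟨444683538720, 4, [4, 3, 2, 0, 2, 0]⟩)) (.leaf ⟨590144028960, 1, [3, 2, 2, 0]⟩)) (.node (.leaf ⟨590142984720, 1, [3, 1, 1]⟩) (.leaf ⟨444681290580, 1, [4, 3, 2, 1, 0]⟩))) (.node (.node (.leaf ⟨590140675395, 4, [3, 2]⟩) (.leaf ⟨509361733650, 4, [4, 0, 2, 2]⟩)) (.node (.leaf ⟨590142062850, 1, [3, 1, 0, 0]⟩) (.leaf ⟨509359706130, 4, [4, 0, 2, 0, 2]⟩)))) (.node (.node (.node (.node (.leaf ⟨590144090145, 1, [3, 0]⟩) (.leaf ⟨444683538450,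 4, [4, 3, 0, 2, 0, 2]⟩)) (.leaf ⟨444681291075, 1, [4, 3, 2, 1]⟩)) (.node (.leaf ⟨509356352835, 1, [4, 0, 2]⟩) (.leaf ⟨654814876485, 4, [2, 0, 2, 2, 1]⟩))) (.node (.node (.leaf ⟨654815920980, 4, [2, 1, 0]⟩) (.leaf ⟨444683600130, 4, [4, 3, 1, 0, 0]⟩)) (.node (.leaf ⟨654819275040, 1, [2, 2, 1, 0]⟩) (.leaf ⟨444684521730, 4, [4, 3, 1, 1, 0, 0]⟩))))

def bTOEO : BT Row :=
  .node (.node (.node (.node (.node (.leaf ⟨509361795600, 4, [4]⟩) (.leaf ⟨444684644370, 4, [4, 3, 0, 2, 2, 1]⟩)) (.leaf ⟨654819274770, 1, [0, 2, 2, 1]⟩)) (.node (.leaf ⟨509357458755, 1, [4, 2, 1]⟩) (.leaf ⟨444680184660, 1, [4, 3, 0, 2, 0]⟩))) (.node (.node (.leaf ⟨654816842805, 4, [2, 0, 0]⟩) (.leaf ⟨590142984450, 1, [3, 1, 1, 0, 0]⟩)) (.node (.leaf ⟨509358380085, 1, [4, 2, 0, 0]⟩) (.leaf ⟨590140736325, 4, [3, 2, 0, 2, 2]⟩)))) (.node (.node (.node (.node (.leaf ⟨590142063120, 1, [3, 1]⟩) (.leaf ⟨444681167955,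 1, [4, 3, 2, 2, 0, 2, 0]⟩)) (.leaf ⟨509359706625, 4, [4, 2, 0, 2]⟩)) (.node (.leaf ⟨509361734145, 4, [4, 2, 2]⟩) (.leaf ⟨509356414260, 1, [4, 2, 2, 2, 1]⟩))) (.node (.node (.leaf ⟨654820196640, 1, [2, 2, 0]⟩) (.leaf ⟨444684521505, 4, [4, 3, 1, 1, 0]⟩)) (.node (.leaf ⟨654818169120, 1, [2, 0, 2, 0]⟩) (.leaf ⟨509356414035, 1, [4, 2, 2, 2, 1, 0]⟩))))

def bTOE : BT Row := .node bTOEE bTOEO

def bTOOE : BT Row :=
  .node (.node (.node (.node (.node (.leaf ⟨654816843075, 4, [2]⟩) (.leaf ⟨590138708805, 4, [3, 2, 0, 2, 2, 1]⟩)) (.leaf ⟨444682212180, 1, [4, 3, 2, 0]⟩)) (.node (.leaf ⟨654819275265, 1, [2, 2, 1]⟩) (.leaf ⟨590142001440, 1, [3, 2, 0, 2, 0]⟩))) (.node (.node (.leaf ⟨444685627920, 4, [4, 3]⟩) (.leaf ⟨509358441780, 1, [4, 2, 2, 2]⟩)) (.node (.leaf ⟨654814815285, 4, [0, 2, 0, 0]⟩) (.leaf ⟨509357335860, 1, [4, 2, 2, 0, 2]⟩)))) (.node (.node (.node (.node (.leaf ⟨654819152400,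 1, [1, 1]⟩) (.leaf ⟨444682273605, 1, [4, 3, 2, 0, 2, 2]⟩)) (.leaf ⟨654815798580, 4, [2, 2, 0, 2]⟩)) (.node (.leaf ⟨654816904500, 4, [2, 2, 2]⟩) (.leaf ⟨509360812050, 4, [4, 0, 2, 2, 1]⟩))) (.node (.node (.leaf ⟨509359767585, 4, [4, 1, 0]⟩) (.leaf ⟨509356352565, 1, [4, 0, 2, 0, 0]⟩)) (.node (.leaf ⟨509357458260, 1, [4, 2, 1, 0]⟩) (.leaf ⟨444680184885, 1, [4, 3, 0, 2, 0, 0]⟩))))

def bTOOO : BT Row :=
  .node (.node (.node (.node (.node (.leaf ⟨654818230305, 1, [1, 0]⟩) (.leaf ⟨590139630405, 4, [3, 2, 0, 2, 0, 2]⟩)) (.leaf ⟨590143107585, 1, [3, 2, 2, 1]⟩)) (.node (.leaf ⟨654818169345, 1, [2, 0, 2]⟩) (.leaf ⟨509358441555, 1, [4, 2, 2, 2, 0]⟩))) (.node (.node (.leaf ⟨509361795330, 4, [4, 0, 0]⟩) (.leaf ⟨590139753525, 4, [3, 2, 1, 0, 0]⟩)) (.node (.leaf ⟨590142984225, 1, [3, 1, 1, 0]⟩) (.leaf ⟨444685565970, 4, [4, 3, 0, 2, 2]⟩)))) (.node (.node (.node (.node (.leaf ⟨654814815555,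 4, [0, 2]⟩) (.leaf ⟨444681167685, 1, [4, 3, 2, 0, 2, 0, 2]⟩)) (.leaf ⟨654816904005, 4, [2, 0, 2, 2]⟩)) (.node (.leaf ⟨654819152130, 1, [1, 1, 0, 0]⟩) (.leaf ⟨654815798085, 4, [2, 0, 2, 0, 2]⟩))) (.node (.node (.leaf ⟨509358379860, 1, [4, 2, 0]⟩) (.leaf ⟨590143107360, 1, [3, 2, 2, 1, 0]⟩)) (.node (.leaf ⟨509356352340, 1, [4, 0, 2, 0]⟩) (.leaf ⟨590139630675, 4, [3, 2, 2, 0, 2, 0]⟩))))

def bTOO : BT Row := .node bTOOE bTOOO

def bTO : BT Row := .node bTOE bTOO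

def bT : BT Row := .node bTE bTO

def tT : BT Leaf :=
  .node (.node (.node (.leaf ⟨⟨654820258320, []⟩, 1, 0, 0⟩) (.leaf ⟨⟨654819271440, [50, 84]⟩, 0, 0, 0⟩)) (.leaf ⟨⟨654787818000, [84, 101]⟩, 0, 0, 0⟩)) (.node (.leaf ⟨⟨654804525840, [50, 101]⟩, 0, 0, 0⟩) (.leaf ⟨⟨654754267920, [50, 67, 84, 101]⟩, 0, 0, 0⟩))

def rels0 : List Rel :=
  [⟨5, ⟨302579521920, [129, 104, 54, 146, 73, 84]⟩, [633345245760, 629053665600], 2, [9261353605644944425, 728700926705658759186, 470483998746991395965, 359820334807782525979, 433625079189180779530, 1023957252802468645944, 691826262390832366724, 184486774876189754477, 590295933693426926655, 230728557092078093403]⟩,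
    ⟨3, ⟨430897178640, [130, 72, 148, 105, 54, 117]⟩, [654787621200, 654753149280], 4, [562662233257231255563, 525786249403926840359, 525822278235485899804, 562752868371664995335, 101529660349269150745, 101457127869119466504, 267640112483028436042, 18464952059300938813, 525841295491217753090, 101601207598075347988]⟩,
    ⟨5, ⟨238410799440, [81, 101, 38, 146, 57, 135]⟩, [654817105200, 654737490480], 4, [36064020297417767, 267532025783010724870, 175335213958462178328, 101583703579069252628, 959375880217839012915, 1162327290347377394704, 525930874765670614041, 350704820600937907247, 1162399348078699086848, 18719229619671663659, 562932449750793850887, 267550920409251578887, 350778198034407754755, 562790093506058652672, 108597256499761164, 267822332758691152975, 562644219168223657984, 18446938348527289442, 101872497077145045007, 563059869816908153859, 563076564869890183170,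 627659942792186037277, 486424532865778762, 267982703263817402379, 267714246642466031628, 526129033836121556016, 101782425600085987331, 175766522408296514571, 959609188647809582137, 627551856710521979946]⟩,
    ⟨3, ⟨370180442145, [16, 33, 130, 104, 67, 148, 89, 117]⟩, [654787629840, 654819079440], 1, [562662233257269005319, 525786249403645824001, 525822278235062275096, 562752868371719521374, 101529660349411755036, 101457127869287236713, 267640112483217179663, 18464952059489682502, 525841295491272280067, 101601207598255703091]⟩]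

def rels : List Rel :=
  List.flatten [rels0]

def phases : List ℕ := [1, 1, 4, 1, 4]

def cert : Cert :=
  ⟨Five.gs.zip phases, Five.gs.zip phases, bT, bT, tT, rels⟩

def seeds : List (List Elem) := Five.hs

theorem rels0_ok : rels0.all (okRel 10 5 cert seeds) = true := by decide +kernel

theorem base_ok : okBase 10 5 cert = true := by decide +kernel

theorem cert_ok : ok 10 5 seeds cert = true :=
  ok_intro base_ok (by
    rw [show cert.rels = rels from rfl]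
    simp only [rels, List.all_flatten, List.all_cons, List.all_nil, Bool.and_true,
      rels0_ok])

end CfsgLib.AltModFixed.Five7
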