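import Cfsg.Agent.Lib.AltModFixed.FiveSeeds

/-! Certificate data for fixed vectors in modules of alternating groups. -/

set_option autoImplicit false
set_option maxRecDepth 20000

namespace CfsgLib.AltModFixed.Five

def moves : List (Elem × List (List ℕ)) :=
  [(⟨646515536400, [118, 135]⟩, [[0], [1], [2], [4], [4, 3]]),
    (⟨650290410000, [134, 120]⟩, [[0], [1], [2], [4, 3], [3]]),
    (⟨654568538640, [67, 118]⟩, [[0], [1, 1], [2, 2, 2], [3], [4, 3]]),
    (⟨646263816720, [67, 134]⟩, [[0], [1, 1], [2, 2, 2], [4, 3], [4]]),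
    (⟨650793665040, [67, 135]⟩, [[0], [1, 1], [2, 2, 2], [4], [3]])]

def hA : List Elem :=
  [⟨654804468240, [67, 101]⟩, ⟨654567617040, [84, 118]⟩, ⟨653730804240, [115, 101]⟩, ⟨654568538640, [67, 118]⟩, ⟨653745549840, [115, 84]⟩]

def hAwit : List (List ℕ × List ℕ) :=
  [([4, 2], [1, 3]), ([0, 3], [2, 4]), ([0, 3], [1, 3, 1]), ([2, 0], [4, 1]), ([3, 1], [0, 2])]

def t0 : Elem := ⟨654820257825, [16, 33]⟩

def t1 : Elem := ⟨654818230800, [67, 84]⟩

def z0 : Elem := ⟨654820254465, [16, 50]⟩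

def z1 : Elem := ⟨654804468240, [67, 101]⟩

def five : Elem := ⟨653764411920, [67, 84, 101, 118]⟩

end CfsgLib.AltModFixed.Five
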