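import Cfsg.Agent.Lib.AltModFixed.Basic
import Cfsg.Agent.Lib.AltModFixed.Five0
import Cfsg.Agent.Lib.AltModFixed.Five1
import Cfsg.Agent.Lib.AltModFixed.Five3
import Cfsg.Agent.Lib.AltModFixed.Five4
import Cfsg.Agent.Lib.AltModFixed.Five5
import Cfsg.Agent.Lib.AltModFixed.Five7
import Cfsg.Agent.Lib.AltModFixed.FiveMoves

/-!
# A vector with a non-solvable stabilizer in every module of `Alt(10)` of exponent 5
-/

set_option autoImplicit false

namespace CfsgLib.AltModFixed.Five

open Equiv

/-- the inverse of the eigenvalue of a word -/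
def invPhase (ph w : List ℕ) : ℕ := (w.map fun a => (ph.getD a 1) ^ 3).prod

/-- the sum over `bs` is a projection for the eigenvalues `ph` -/
def okAvg (ph : List ℕ) : Bool :=
  gs.all (okE 10) && Nat.beq ph.length gs.length && Nat.beq bperm.length gs.length &&
    ph.all (fun r => Nat.beq ((r ^ 3 * r) % 5) 1) &&
    bs.all (fun b => b.2.all (fun a => Nat.blt a gs.length) &&
      weq 10 [b.1] (wordCodes gs b.2)) &&
    (List.range gs.length).all fun k =>
      ((List.range bs.length).all fun i =>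
        Nat.blt ((bperm.getD k []).getD i bs.length) bs.length &&
        weq 10 [(bs.getD i (0, [])).1, (gs.getD k ⟨0, []⟩).code]
          [(bs.getD ((bperm.getD k []).getD i bs.length) (0, [])).1] &&
        Nat.beq (invPhase ph (bs.getD i (0, [])).2 % 5)
          ((ph.getD k 1 * invPhase ph (bs.getD ((bperm.getD k []).getD i bs.length) (0, [])).2) % 5)) &&
      (List.range bs.length).all fun j => (bperm.getD k []).contains j

/-- the eigenvalues after the move -/
def movePhase (ph : List ℕ) (ws : List (List ℕ)) : List ℕ :=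
  ws.map fun w => (w.map fun a => ph.getD a 1).prod % 5

def targets : List (List ℕ) :=
  [Five0.phases, Five1.phases, Five3.phases, Five4.phases, Five5.phases, Five7.phases]

def allPhases : List (List ℕ) :=
  [1, 2, 3, 4].flatMap fun r => [1, 4].flatMap fun a => [1, 4].map fun b => [1, 1, r, a, b]

theorem phases_cover :
    (allPhases.all fun ph => targets.contains ph ||
      moves.any fun m => targets.contains (movePhase ph m.2)) = true := by decide +kernel

def okMoves : Bool :=
  gs.all (okE 10) && moves.all fun m => okE 10 m.1 && Nat.beq m.2.length gs.length &&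
    (gs.zip m.2).all fun p => okMove 10 gs m.1 p.1 p.2

theorem moves_ok : okMoves = true := by decide +kernel

theorem hA_ok : okWit 10 hA hAwit = true := by decide +kernel

theorem hs_ok : okWits 10 hs wit = true := by decide +kernel

/-- small relations between the fixed elements -/
def okRels : Bool :=
  gs.all (okE 10) && okE 10 t0 && okE 10 t1 && okE 10 z1 && okE 10 five &&
    (let c := fun k => (gs.getD k ⟨0, []⟩).code
    weq 10 [t1.code, t1.code, t1.code] [] && weq 10 [z1.code, z1.code] [] &&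
    weq 10 [z1.code, t1.code, z1.code, t1.code, t1.code]
      [t1.code, z1.code, t1.code, t1.code, z1.code] &&
    weq 10 [t1.code, t1.code, z1.code, t1.code] [z1.code, t1.code, z1.code, t1.code, t1.code] &&
    weq 10 [t0.code] [c 0] && weq 10 [t1.code] [c 1] &&
    weq 10 [t1.code, t0.code] [t0.code, t1.code] &&
    weq 10 [z1.code, t0.code] [t0.code, z1.code] &&
    weq 10 [five.code, t0.code] [t0.code, five.code] &&
    weq 10 [five.code, five.code, five.code, five.code, five.code] [] &&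
    Nat.beq hA.length 5 &&
    ((List.range 5).all fun k => weq 10
      [(hA.getD k ⟨0, []⟩).code]
      (List.replicate k five.code ++ [z1.code] ++ List.replicate (5 - k) five.code)) &&
    weq 10 [c 2, c 0] [c 1, c 2] && weq 10 [c 2, c 1] [c 0, c 0, c 2] &&
    weq 10 [c 2, c 2, c 2, c 2] [] && weq 10 [c 3, c 3] [] && weq 10 [c 4, c 4] [] &&
    weq 10 [c 3, c 4] [c 4, c 3] && weq 10 [c 3, c 2] [c 2, c 3] && weq 10 [c 4, c 2] [c 2, c 4] &&
    weq 10 [c 3, c 0] [c 0, c 3] && weq 10 [c 3, c 1] [c 1, c 3] &&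
    weq 10 [c 4, c 0] [c 0, c 4] && weq 10 [c 4, c 1] [c 1, c 4] &&
    weq 10 [c 1, c 0] [c 0, c 1])

theorem rels_ok : okRels = true := by decide +kernel

section

variable {V : Type*} [AddCommGroup V] (ρ : Alt 10 →* AddMonoid.End V)

/-- the projection -/
noncomputable def avg (ph : List ℕ) : V →+ V :=
  AddMonoidHom.mk'
    (fun x => ∑ i : Fin bs.length, invPhase ph bs[i.val].2 • ρ (wordProd 10 gs bs[i.val].2) x)
    (fun x y => by simp only [map_add, nsmul_add, Finset.sum_add_distrib])

theorem avg_apply (ph : List ℕ) (x : V) : avg ρ ph x =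
    ∑ i : Fin bs.length, invPhase ph bs[i.val].2 • ρ (wordProd 10 gs bs[i.val].2) x := by
  simp only [avg, AddMonoidHom.mk'_apply]

theorem kill (hq : ∀ x : V, 5 • x = 0) (h : NSFree ρ) {ph : List ℕ} {C : Cert}
    (hg : C.gens = gs.zip ph) (hl : C.lgens = gs.zip ph)
    (hok : ok 10 5 hs C = true) (ha : okAvg ph = true) {v : V}
    (hv : ∀ p ∈ gs.zip ph, ρ (elt 10 p.1) v = p.2 • v) : v = 0 := by
  simp only [okAvg, Bool.and_eq_true, List.all_eq_true, List.mem_range] at ha
  obtain ⟨⟨⟨⟨⟨hgs, hlen⟩, -⟩, hunit⟩, hbs⟩, hperm⟩ := ha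
  have hlen' : ph.length = gs.length := nbeq_iff.1 hlen
  have hbc : ∀ i : Fin bs.length, IsCode (wordProd 10 gs bs[i.val].2) bs[i.val].1 := by
    intro i
    obtain ⟨h1, h2⟩ := hbs _ (List.getElem_mem i.2)
    have h1' : bs[i.val].2.all (fun a => Nat.blt a gs.length) = true := by
      simpa [List.all_eq_true] using h1
    exact weq_code (wordCodes_spec hgs h1') h2
  have hP : ∀ p ∈ gs.zip ph, ∀ x, avg ρ ph (ρ (elt 10 p.1) x) = p.2 • avg ρ ph x := by
    intro p hp x
    obtain ⟨k, hk, rfl⟩ := List.getElem_of_mem hp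
    rw [List.getElem_zip]
    have hkg : k < gs.length := by simp only [List.length_zip] at hk; omega
    have hkp : k < ph.length := by omega
    obtain ⟨hedge, hsur⟩ := hperm k hkg
    let f : Fin bs.length → Fin bs.length := fun i =>
      ⟨(bperm.getD k []).getD i.val bs.length, by simpa using (hedge i.val i.2).1.1⟩
    have hf : Function.Surjective f := by
      intro j
      have := hsur j.val j.2
      rw [List.contains_iff_mem] at this
      obtain ⟨i, hi, he⟩ := List.getElem_of_mem this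
      have hlt : i < bs.length ∨ bs.length ≤ i := lt_or_ge _ _
      rcases hlt with hlt | hge
      · exact ⟨⟨i, hlt⟩, Fin.ext (by simp only [f]; rw [List.getD_eq_getElem _ _ hi, he])⟩
      · exfalso
        have hb : (bperm.getD k []).length ≤ bs.length := by
          have h5 : k < 5 := by have : gs.length = 5 := rfl; omega
          interval_cases k <;> decide +kernel
        omega
    have hb : Function.Bijective f := ⟨Finite.injective_iff_surjective.2 hf, hf⟩
    rw [avg_apply, avg_apply, Finset.smul_sum]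
    refine Fintype.sum_bijective f hb _ _ fun i => ?_
    obtain ⟨⟨-, hw⟩, hwt⟩ := hedge i.val i.2
    have hfi : (bperm.getD k []).getD i.val bs.length = (f i).val := rfl
    rw [hfi, List.getD_eq_getElem _ _ i.2, List.getD_eq_getElem _ _ (f i).2,
      List.getD_eq_getElem _ _ hkg] at hw
    rw [hfi, List.getD_eq_getElem _ _ i.2, List.getD_eq_getElem _ _ (f i).2,
      List.getD_eq_getElem _ _ hkp] at hwt
    have he := weq_prod
      (List.Forall₂.cons (hbc i) (forall₂_one (elt_isCode (hgs _ (List.getElem_mem hkg)))))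
      (forall₂_one (hbc (f i))) hw
    simp only [List.prod_cons, List.prod_nil, mul_one] at he
    rw [← act_mul, he, ← mul_nsmul']
    exact nsmul_congr hq (Nat.eq_of_beq_eq_true hwt) _
  have h0 := sound ρ Nat.prime_five hq hok (noFix_of_wits ρ hs_ok h) (avg ρ ph)
    (by rw [hl]; exact hP) v (by rw [hg]; exact hv)
  have hterm : ∀ i : Fin bs.length,
      invPhase ph bs[i.val].2 • ρ (wordProd 10 gs bs[i.val].2) v = v := by
    intro i
    obtain ⟨h1, -⟩ := hbs _ (List.getElem_mem i.2)
    have key : ∀ w : List ℕ, (∀ a ∈ w, Nat.blt a gs.length = true) →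
        invPhase ph w • ρ (wordProd 10 gs w) v = v := by
      intro w hw
      induction w with
      | nil => simp [invPhase, wordProd]
      | cons a w ih =>
        have ha : a < gs.length := by simpa using hw a (List.mem_cons_self ..)
        have hap : a < ph.length := by omega
        have hmem : (gs[a], ph[a]) ∈ gs.zip ph :=
          List.mem_iff_getElem.2 ⟨a, by simp [ha, hap], List.getElem_zip⟩
        have e1 : wordProd 10 gs (a :: w) = elt 10 gs[a] * wordProd 10 gs w := by
          rw [wordProd, wordProd, List.map_cons, List.prod_cons, List.getD_eq_getElem _ _ ha]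
        have e2 : invPhase ph (a :: w) = ph[a] ^ 3 * invPhase ph w := by
          simp only [invPhase, List.map_cons, List.prod_cons, List.getD_eq_getElem _ _ hap]
        rw [e1, e2, act_mul, mul_nsmul', ← map_nsmul (ρ (elt 10 gs[a])),
          ih fun b hb => hw b (List.mem_cons_of_mem _ hb), hv _ hmem, ← mul_nsmul',
          nsmul_congr hq (b := 1) (Nat.eq_of_beq_eq_true (hunit _ (List.getElem_mem hap))),
          one_nsmul]
    exact key _ h1
  rw [avg_apply, Finset.sum_congr rfl (fun i _ => hterm i), Finset.sum_const, Finset.card_univ,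
    Fintype.card_fin] at h0
  exact eq_zero_of_nsmul Nat.prime_five hq (by decide +kernel) h0

theorem avg0 : okAvg Five0.phases = true := by decide +kernel
theorem avg1 : okAvg Five1.phases = true := by decide +kernel
theorem avg3 : okAvg Five3.phases = true := by decide +kernel
theorem avg4 : okAvg Five4.phases = true := by decide +kernel
theorem avg5 : okAvg Five5.phases = true := by decide +kernel
theorem avg7 : okAvg Five7.phases = true := by decide +kernel

theorem kill_target (hq : ∀ x : V, 5 • x = 0) (h : NSFree ρ) {ph : List ℕ} (hm : ph ∈ targets)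
    {v : V} (hv : ∀ p ∈ gs.zip ph, ρ (elt 10 p.1) v = p.2 • v) : v = 0 := by
  simp only [targets, List.mem_cons, List.not_mem_nil, or_false] at hm
  rcases hm with rfl | rfl | rfl | rfl | rfl | rfl
  · exact kill ρ hq h rfl rfl Five0.cert_ok avg0 hv
  · exact kill ρ hq h rfl rfl Five1.cert_ok avg1 hv
  · exact kill ρ hq h rfl rfl Five3.cert_ok avg3 hv
  · exact kill ρ hq h rfl rfl Five4.cert_ok avg4 hv
  · exact kill ρ hq h rfl rfl Five5.cert_ok avg5 hv
  · exact kill ρ hq h rfl rfl Five7.cert_ok avg7 hv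

/-- A four-group `⟨s, t s t⁻¹⟩` acts trivially where `t` has no fixed point. -/
theorem trick {t s : Alt 10} (W : AddSubgroup V) (hWt : ∀ x ∈ W, ρ t x ∈ W)
    (hWs : ∀ x ∈ W, ρ s x ∈ W) (hq : ∀ x : V, 5 • x = 0) (ht : t * t * t = 1) (hs : s * s = 1)
    (hc : s * (t * s * t⁻¹) = t * s * t⁻¹ * s) (hp : t⁻¹ * s * t = s * (t * s * t⁻¹))
    (hno : ∀ x ∈ W, ρ t x = x → x = 0) : ∀ x ∈ W, ρ s x = x := by
  set b := t * s * t⁻¹ with hb
  have hbb : b * b = 1 := by
    rw [hb, show t * s * t⁻¹ * (t * s * t⁻¹) = t * (s * s) * t⁻¹ by group, hs]; group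
  have hti : t⁻¹ = t * t := by
    rw [inv_eq_iff_mul_eq_one, ← mul_assoc, ht]
  have hWb : ∀ x ∈ W, ρ b x ∈ W := fun x hx => by
    rw [hb, hti, act_mul, act_mul, act_mul]
    exact hWt _ (hWs _ (hWt _ (hWt _ hx)))
  let w : V → V := fun x => x + ρ s x - ρ b x - ρ (s * b) x
  have h5 : ∀ {y : V}, y + y = 0 → y = 0 := fun {y} hy =>
    eq_zero_of_nsmul Nat.prime_five hq (a := 2) (by decide) (by rwa [two_nsmul])
  have hw0 : ∀ x ∈ W, w x = 0 := by
    intro x hx
    have e1 : ρ s (w x) = w x := by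
      simp only [w, map_add, map_sub, ← act_mul, ← mul_assoc, hs, one_mul, act_one]
      abel
    have e2 : ρ (s * b) (w x) = - w x := by
      simp only [w, map_add, map_sub, ← act_mul]
      rw [show s * b * s = b by rw [mul_assoc, ← hc, ← mul_assoc, hs, one_mul],
        show s * b * b = s by rw [mul_assoc, hbb, mul_one],
        show s * b * (s * b) = 1 by
          rw [← mul_assoc, show s * b * s = b by rw [mul_assoc, ← hc, ← mul_assoc, hs, one_mul],
            hbb], act_one]
      abel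
    have e3 : ρ b (w x) = - w x := by
      simp only [w, map_add, map_sub, ← act_mul]
      rw [← hc, show b * (s * b) = s by rw [← mul_assoc, ← hc, mul_assoc, hbb, mul_one],
        hbb, act_one]
      abel
    have e4 : ρ s (ρ t (w x)) = - ρ t (w x) := by
      rw [← act_mul, show s * t = t * (t⁻¹ * s * t) by group, hp, act_mul, e2, map_neg]
    have e5 : ρ s (ρ t (ρ t (w x))) = - ρ t (ρ t (w x)) := by
      have : t⁻¹ * (t⁻¹ * s * t) * t = b := by
        rw [hp, show t⁻¹ * (s * b) * t = t⁻¹ * s * t * (t⁻¹ * b * t) by group,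
          show t⁻¹ * b * t = s by rw [hb]; group, hp, mul_assoc, ← hc, ← mul_assoc, hs, one_mul]
      rw [← act_mul ρ t t, ← act_mul,
        show s * (t * t) = t * t * (t⁻¹ * (t⁻¹ * s * t) * t) by group, this, act_mul ρ (t * t), e3,
        map_neg]
    have hwW : w x ∈ W := by
      refine W.sub_mem (W.sub_mem (W.add_mem hx (hWs _ hx)) (hWb _ hx)) ?_
      rw [act_mul]; exact hWs _ (hWb _ hx)
    have hS : w x + ρ t (w x) + ρ t (ρ t (w x)) = 0 := by
      refine hno _ (W.add_mem (W.add_mem hwW (hWt _ hwW)) (hWt _ (hWt _ hwW))) ?_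
      rw [map_add, map_add, ← act_mul ρ t t, ← act_mul ρ t (t * t), ← mul_assoc, ht, act_one]
      abel
    refine h5 ?_
    have := congrArg (ρ s) hS
    rw [map_add, map_add, map_zero, e1, e4, e5] at this
    calc w x + w x = (w x + ρ t (w x) + ρ t (ρ t (w x))) +
          (w x + -ρ t (w x) + -ρ t (ρ t (w x))) := by abel
      _ = 0 := by rw [hS, this, add_zero]
  have hbx : ∀ x ∈ W, ρ b x = x := by
    intro x hx
    have h1 := hw0 x hx
    have h2 := hw0 (ρ t x) (hWt x hx)
    have h3 := congrArg (ρ t⁻¹) h2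
    simp only [w, map_add, map_sub, map_zero, ← act_mul] at h3
    rw [inv_mul_cancel, act_one, show t⁻¹ * (s * t) = s * b by rw [← mul_assoc, hp],
      show t⁻¹ * (b * t) = s by rw [hb]; group,
      show t⁻¹ * (s * b * t) = b by
        rw [show t⁻¹ * (s * b * t) = t⁻¹ * s * t * (t⁻¹ * b * t) by group, hp,
          show t⁻¹ * b * t = s by rw [hb]; group, mul_assoc, ← hc, ← mul_assoc, hs, one_mul]]
      at h3
    have : (x - ρ b x) + (x - ρ b x) = 0 := by
      calc (x - ρ b x) + (x - ρ b x) = w x + (x + ρ (s * b) x - ρ s x - ρ b x) := by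
            simp only [w]; abel
        _ = 0 := by rw [h1, h3, add_zero]
    exact (sub_eq_zero.1 (h5 this)).symm
  intro x hx
  have := hbx _ (hWt x hx)
  rw [hb, act_mul, act_cancel', act_mul] at this
  simpa [act_cancel'] using congrArg (ρ t⁻¹) this

theorem eq_of_weq {us ws : List Elem} (hu : ∀ e ∈ us, okE 10 e = true)
    (hw : ∀ e ∈ ws, okE 10 e = true)
    (h : weq 10 (us.map Elem.code) (ws.map Elem.code) = true) :
    (us.map (elt 10)).prod = (ws.map (elt 10)).prod := by
  have key : ∀ l : List Elem, (∀ e ∈ l, okE 10 e = true) →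
      List.Forall₂ IsCode (l.map (elt 10)) (l.map Elem.code) := by
    intro l hl
    induction l with
    | nil => exact List.Forall₂.nil
    | cons a l ih =>
      exact List.Forall₂.cons (elt_isCode (hl a (List.mem_cons_self ..)))
        (ih fun e he => hl e (List.mem_cons_of_mem _ he))
  exact weq_prod (key _ hu) (key _ hw) h

/-- Every non-zero module of exponent 5 of `Alt(10)` has a non-zero vector with a non-solvable
stabilizer. -/
theorem exists_fixed (hq : ∀ x : V, 5 • x = 0) [Nontrivial V] :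
    ∃ x : V, x ≠ 0 ∧ ¬ Group.IsSolvable (stab ρ x) := by
  by_contra hne
  push Not at hne
  have h : NSFree ρ := fun x hx => by_contra fun h0 => hx (hne x h0)
  have hr := rels_ok
  simp only [okRels, Bool.and_eq_true] at hr
  obtain ⟨⟨⟨⟨⟨hgs, k0⟩, k1⟩, kz⟩, k5⟩, hr⟩ := hr
  obtain ⟨⟨⟨⟨⟨⟨⟨⟨⟨⟨⟨⟨⟨⟨⟨⟨⟨⟨⟨⟨⟨⟨⟨⟨r1, r2⟩, r3⟩, r4⟩, r5⟩, r6⟩, r7⟩, r8⟩, r9⟩, r10⟩,
    rL⟩, r11⟩, r12⟩, r13⟩, r14⟩, r15⟩, r16⟩, r17⟩, r18⟩, r19⟩, r20⟩, r21⟩, r22⟩, r23⟩,
    r24⟩ := hr
  simp only [List.all_eq_true] at hgs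
  set T0 := elt 10 t0
  set T1 := elt 10 t1
  set Z := elt 10 z1
  set F := elt 10 five
  have eT3 : T1 * T1 * T1 = 1 := by
    simpa [T1, mul_assoc] using eq_of_weq (us := [t1, t1, t1]) (ws := []) (by simp [k1]) (by simp) r1
  have eZ2 : Z * Z = 1 := by
    simpa [Z] using eq_of_weq (us := [z1, z1]) (ws := []) (by simp [kz]) (by simp) r2
  have hti : T1⁻¹ = T1 * T1 := by rw [inv_eq_iff_mul_eq_one, ← mul_assoc, eT3]
  have ec : Z * (T1 * Z * T1⁻¹) = T1 * Z * T1⁻¹ * Z := by
    simpa [hti, T1, Z, mul_assoc] using eq_of_weq (us := [z1, t1, z1, t1, t1])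
      (ws := [t1, z1, t1, t1, z1]) (by simp [k1, kz]) (by simp [k1, kz]) r3
  have ep : T1⁻¹ * Z * T1 = Z * (T1 * Z * T1⁻¹) := by
    simpa [hti, T1, Z, mul_assoc] using eq_of_weq (us := [t1, t1, z1, t1])
      (ws := [z1, t1, z1, t1, t1]) (by simp [k1, kz]) (by simp [k1, kz]) r4
  have eF5 : F * F * F * F * F = 1 := by
    simpa [F, mul_assoc] using
      eq_of_weq (us := [five, five, five, five, five]) (ws := []) (by simp [k5]) (by simp) r10
  -- one step: a fixed point of `T1` in an invariant subgroup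
  have step : ∀ W : AddSubgroup V, (∀ x ∈ W, ρ T1 x ∈ W) → (∀ x ∈ W, ρ Z x ∈ W) →
      (∀ x ∈ W, ρ F x ∈ W) → (∃ x ∈ W, x ≠ 0) → ∃ x ∈ W, x ≠ 0 ∧ ρ T1 x = x := by
    intro W hW1 hW2 hW3 hex
    by_contra hno
    push Not at hno
    have htriv := trick ρ W hW1 hW2 hq eT3 eZ2 ec ep
      fun x hx hfix => by_contra fun h0 => hno x hx h0 hfix
    obtain ⟨x, hx, hx0⟩ := hex
    refine hx0 (h x (not_solvable_of_wit hA_ok fun g hg => ?_))
    obtain ⟨k, hk, rfl⟩ := List.getElem_of_mem hg
    rw [nbeq_iff.1 rL] at hk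
    have hk' := List.all_eq_true.1 r11 k (List.mem_range.2 hk)
    have hAe : ∀ e ∈ hA, okE 10 e = true := by
      have := hA_ok
      simp only [okWit, Bool.and_eq_true, List.all_eq_true] at this
      exact this.1.1.1
    have he := eq_of_weq (us := [hA[k]'(by rw [nbeq_iff.1 rL]; exact hk)])
      (ws := List.replicate k five ++ [z1] ++ List.replicate (5 - k) five)
      (by simpa using hAe _ (List.getElem_mem _))
      (by
        intro e he
        simp only [List.mem_append, List.mem_replicate, List.mem_singleton] at he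
        rcases he with (⟨-, rfl⟩ | rfl) | ⟨-, rfl⟩
        · exact k5
        · exact kz
        · exact k5)
      (by
        rw [List.getD_eq_getElem _ _ (by rw [nbeq_iff.1 rL]; exact hk)] at hk'
        simp only [List.map_append, List.map_replicate, List.map_cons, List.map_nil]
        exact hk')
    simp only [List.map_cons, List.map_nil, List.prod_cons, List.prod_nil, mul_one,
      List.map_append, List.prod_append, List.map_replicate, List.prod_replicate] at he
    rw [mem_stab, he, act_mul, act_mul]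
    have hpow : ∀ (m : ℕ) (y : V), y ∈ W → ρ (F ^ m) y ∈ W := by
      intro m
      induction m with
      | zero => intro y hy; rw [pow_zero, act_one]; exact hy
      | succ m ih => intro y hy; rw [pow_succ', act_mul]; exact hW3 _ (ih y hy)
    rw [htriv _ (hpow _ x hx), ← act_mul, ← pow_add, Nat.add_sub_cancel' (by omega)]
    rw [show F ^ 5 = 1 by rw [pow_succ, pow_succ, pow_succ, pow_two, eF5], act_one]
  obtain ⟨c, hc⟩ : ∃ c : ℕ → Alt 10, ∀ k, c k = elt 10 (gs.getD k ⟨0, []⟩) := ⟨_, fun _ => rfl⟩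
  have hok : ∀ k < 5, okE 10 (gs.getD k ⟨0, []⟩) = true := fun k hk =>
    hgs _ (getD_mem (by simp only [Nat.blt_eq]; exact hk))
  have wq : ∀ (us ws : List ℕ), (∀ a ∈ us, a < 5) → (∀ a ∈ ws, a < 5) →
      weq 10 (us.map fun a => (gs.getD a ⟨0, []⟩).code)
        (ws.map fun a => (gs.getD a ⟨0, []⟩).code) = true →
      (us.map c).prod = (ws.map c).prod := by
    intro us ws hu hw hwe
    have := eq_of_weq (us := us.map fun a => gs.getD a ⟨0, []⟩)
      (ws := ws.map fun a => gs.getD a ⟨0, []⟩)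
      (by simpa using fun a ha => hok a (hu a ha)) (by simpa using fun a ha => hok a (hw a ha))
      (by simpa [List.map_map, Function.comp_def] using hwe)
    simpa [List.map_map, Function.comp_def, funext hc] using this
  have hc0 : T0 = c 0 := by
    simpa [T0, hc] using eq_of_weq (us := [t0]) (ws := [gs.getD 0 ⟨0, []⟩]) (by simp [k0])
      (by simpa using hok 0 (by decide)) r5
  have hc1 : T1 = c 1 := by
    simpa [T1, hc] using eq_of_weq (us := [t1]) (ws := [gs.getD 1 ⟨0, []⟩]) (by simp [k1])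
      (by simpa using hok 1 (by decide)) r6
  have e20 : c 2 * c 0 = c 1 * c 2 := by simpa using wq [2, 0] [1, 2] (by simp) (by simp) r12
  have e21 : c 2 * c 1 = c 0 * c 0 * c 2 := by
    simpa [mul_assoc] using wq [2, 1] [0, 0, 2] (by simp) (by simp) r13
  have e24 : c 2 * c 2 * c 2 * c 2 = 1 := by
    simpa [mul_assoc] using wq [2, 2, 2, 2] [] (by simp) (by simp) r14
  have e33 : c 3 * c 3 = 1 := by simpa using wq [3, 3] [] (by simp) (by simp) r15
  have e44 : c 4 * c 4 = 1 := by simpa using wq [4, 4] [] (by simp) (by simp) r16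
  have e34 : c 3 * c 4 = c 4 * c 3 := by simpa using wq [3, 4] [4, 3] (by simp) (by simp) r17
  have e32 : c 3 * c 2 = c 2 * c 3 := by simpa using wq [3, 2] [2, 3] (by simp) (by simp) r18
  have e42 : c 4 * c 2 = c 2 * c 4 := by simpa using wq [4, 2] [2, 4] (by simp) (by simp) r19
  have e30 : c 3 * c 0 = c 0 * c 3 := by simpa using wq [3, 0] [0, 3] (by simp) (by simp) r20
  have e31 : c 3 * c 1 = c 1 * c 3 := by simpa using wq [3, 1] [1, 3] (by simp) (by simp) r21
  have e40 : c 4 * c 0 = c 0 * c 4 := by simpa using wq [4, 0] [0, 4] (by simp) (by simp) r22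
  have e41 : c 4 * c 1 = c 1 * c 4 := by simpa using wq [4, 1] [1, 4] (by simp) (by simp) r23
  -- a fixed point of `(0 1 2)`
  obtain ⟨a, ha⟩ := exists_ne (0 : V)
  obtain ⟨y, -, hy0, hy⟩ := step ⊤ (by simp) (by simp) (by simp) ⟨a, trivial, ha⟩
  rw [hc1] at hy
  have hW : ∃ x : V, x ≠ 0 ∧ ρ T0 x = x := by
    refine ⟨ρ (c 2)⁻¹ y, fun h0 => hy0 ?_, ?_⟩
    · rw [← act_cancel ρ (c 2) y, h0, map_zero]
    · rw [hc0, ← act_mul, show c 0 * (c 2)⁻¹ = (c 2)⁻¹ * c 1 by
        rw [eq_inv_mul_iff_mul_eq, ← mul_assoc, e20, mul_inv_cancel_right], act_mul, hy]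
  -- a common fixed point of `(0 1 2)` and `(3 4 5)`
  let W : AddSubgroup V :=
    { carrier := {x | ρ T0 x = x}
      add_mem' := fun {a b} ha hb => by simp only [Set.mem_setOf_eq] at ha hb ⊢; rw [map_add, ha, hb]
      zero_mem' := map_zero (ρ T0)
      neg_mem' := fun {a} ha => by simp only [Set.mem_setOf_eq] at ha ⊢; rw [map_neg, ha] }
  have hcomm : ∀ g : Alt 10, g * T0 = T0 * g → ∀ x ∈ W, ρ g x ∈ W := by
    intro g hg x hx
    show ρ T0 (ρ g x) = ρ g x
    rw [← act_mul, ← hg, act_mul, show ρ T0 x = x from hx]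
  have w1 : T1 * T0 = T0 * T1 := by
    simpa [T0, T1] using
      eq_of_weq (us := [t1, t0]) (ws := [t0, t1]) (by simp [k0, k1]) (by simp [k0, k1]) r7
  have w2 : Z * T0 = T0 * Z := by
    simpa [T0, Z] using
      eq_of_weq (us := [z1, t0]) (ws := [t0, z1]) (by simp [k0, kz]) (by simp [k0, kz]) r8
  have w3 : F * T0 = T0 * F := by
    simpa [T0, F] using
      eq_of_weq (us := [five, t0]) (ws := [t0, five]) (by simp [k0, k5]) (by simp [k0, k5]) r9
  obtain ⟨x, hxW, hx0, hx1⟩ := step W (hcomm _ w1) (hcomm _ w2) (hcomm _ w3)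
    (by obtain ⟨x, h1, h2⟩ := hW; exact ⟨x, h2, h1⟩)
  have hx0' : ρ (c 0) x = x := by rw [← hc0]; exact hxW
  rw [hc1] at hx1
  -- eigenvectors
  have h5 : ∀ {z : V}, z + z = 0 → z = 0 := fun {z} hz =>
    eq_zero_of_nsmul Nat.prime_five hq (a := 2) (by decide) (by rwa [two_nsmul])
  have hneg : ∀ z : V, -z = 4 • z := fun z => by
    rw [neg_eq_iff_add_eq_zero, show z + 4 • z = 5 • z by rw [succ_nsmul' z 4]]
    exact hq z
  have split : ∀ (g : Alt 10), g * g = 1 → ∀ z : V, z ≠ 0 →
      ∃ e ∈ [1, 4], ∃ z' : V, z' ≠ 0 ∧ (z' = z + ρ g z ∨ z' = z - ρ g z) ∧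
        ρ g z' = (e : ℕ) • z' := by
    intro g hg z hz
    by_cases hp : z + ρ g z = 0
    · refine ⟨4, by simp, z - ρ g z, fun hm => hz (h5 ?_), Or.inr rfl, ?_⟩
      · calc z + z = (z + ρ g z) + (z - ρ g z) := by abel
          _ = 0 := by rw [hp, hm, add_zero]
      · rw [map_sub, ← act_mul, hg, act_one, ← hneg, neg_sub]
    · exact ⟨1, by simp, z + ρ g z, hp, Or.inl rfl, by
        rw [map_add, ← act_mul, hg, act_one, one_nsmul, add_comm]⟩
  have keep : ∀ (g k : Alt 10), k * g = g * k → ∀ (z z' : V) (e : ℕ),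
      ρ k z = e • z → (z' = z + ρ g z ∨ z' = z - ρ g z) → ρ k z' = e • z' := by
    intro g k hk z z' e hz hor
    have h2 : ρ k (ρ g z) = e • ρ g z := by rw [← act_mul, hk, act_mul, hz, map_nsmul]
    rcases hor with rfl | rfl
    · rw [map_add, hz, h2, nsmul_add]
    · rw [map_sub, hz, h2, nsmul_sub]
  obtain ⟨la, hla, x1, hx10, hor1, hx13⟩ := split (c 3) e33 x hx0
  have hx1c0 : ρ (c 0) x1 = 1 • x1 :=
    keep _ _ e30.symm x x1 1 (by rw [one_nsmul, hx0']) hor1
  have hx1c1 : ρ (c 1) x1 = 1 • x1 := keep _ _ e31.symm x x1 1 (by rw [one_nsmul, hx1]) hor1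
  obtain ⟨lb, hlb, x2, hx20, hor2, hx24⟩ := split (c 4) e44 x1 hx10
  have hx2c3 := keep _ _ e34 x1 x2 la hx13 hor2
  have hx2c0 := keep _ _ e40.symm x1 x2 1 hx1c0 hor2
  have hx2c1 := keep _ _ e41.symm x1 x2 1 hx1c1 hor2
  set R := c 2
  have hc03 : c 0 * c 0 * c 0 = 1 := by
    have hc13 : c 1 * c 1 * c 1 = 1 := by rw [← hc1]; exact eT3
    have h0 : R * c 0 * R⁻¹ = c 1 := by rw [e20, mul_inv_cancel_right]
    have h00 : R * (c 0 * c 0 * c 0) * R⁻¹ = 1 := by
      rw [show R * (c 0 * c 0 * c 0) * R⁻¹ =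
        (R * c 0 * R⁻¹) * (R * c 0 * R⁻¹) * (R * c 0 * R⁻¹) by group, h0, hc13]
    simpa [mul_inv_eq_one] using h00
  let U : AddSubgroup V :=
    { carrier := {z | ρ (c 0) z = z ∧ ρ (c 1) z = z ∧ ρ (c 3) z = la • z ∧ ρ (c 4) z = lb • z}
      add_mem' := fun {a b} ha hb => by
        simp only [Set.mem_setOf_eq] at ha hb ⊢
        simp [map_add, ha, hb, nsmul_add]
      zero_mem' := by simp
      neg_mem' := fun {a} ha => by
        simp only [Set.mem_setOf_eq] at ha ⊢
        simp [map_neg, ha, smul_neg] }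
  have hRinv : ∀ z ∈ U, ρ R z ∈ U := by
    intro z hz
    obtain ⟨h0, h1, h3, h4⟩ := hz
    refine ⟨?_, ?_, ?_, ?_⟩
    · have h00 : ρ (c 0) (ρ (c 0) (ρ R z)) = ρ R z := by
        rw [← act_mul, ← act_mul, ← e21, act_mul, h1]
      calc ρ (c 0) (ρ R z) = ρ (c 0) (ρ (c 0) (ρ (c 0) (ρ R z))) := by rw [h00]
        _ = ρ R z := by rw [← act_mul, ← act_mul ρ (c 0 * c 0), hc03, act_one]
    · rw [← act_mul ρ (c 1), ← e20, act_mul, h0]
    · rw [← act_mul ρ (c 3), e32, act_mul, h3, map_nsmul]
    · rw [← act_mul ρ (c 4), e42, act_mul, h4, map_nsmul]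
  have hx2U : x2 ∈ U :=
    ⟨by rw [hx2c0, one_nsmul], by rw [hx2c1, one_nsmul], hx2c3, hx24⟩
  have hRU : ρ R x2 ∈ U := hRinv _ hx2U
  have hR2U : ρ R (ρ R x2) ∈ U := hRinv _ hRU
  have hR4 : ρ R (ρ R (ρ R (ρ R x2))) = x2 := by
    rw [← act_mul, ← act_mul, ← act_mul, e24, act_one]
  obtain ⟨lr, hlr, x3, hx30, hx3U, hx3⟩ : ∃ lr ∈ [1, 2, 3, 4], ∃ z : V, z ≠ 0 ∧ z ∈ U ∧
      ρ R z = (lr : ℕ) • z := by
    by_cases hp : x2 + ρ R (ρ R x2) = 0
    · have hm : ρ R (ρ R x2) = -x2 := eq_neg_of_add_eq_zero_right hp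
      have hc23 : ρ R (x2 + 2 • ρ R x2) = 3 • (x2 + 2 • ρ R x2) := by
        rw [map_add, map_nsmul, hm]
        calc ρ R x2 + 2 • (-x2) = 3 • (x2 + 2 • ρ R x2) - (5 • x2 + 5 • ρ R x2) := by abel
          _ = 3 • (x2 + 2 • ρ R x2) := by rw [hq, hq, add_zero, sub_zero]
      have hc32 : ρ R (x2 + 3 • ρ R x2) = 2 • (x2 + 3 • ρ R x2) := by
        rw [map_add, map_nsmul, hm]
        calc ρ R x2 + 3 • (-x2) = 2 • (x2 + 3 • ρ R x2) - (5 • x2 + 5 • ρ R x2) := by abel
          _ = 2 • (x2 + 3 • ρ R x2) := by rw [hq, hq, add_zero, sub_zero]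
      by_cases h2 : x2 + 2 • ρ R x2 = 0
      · refine ⟨2, by simp, x2 + 3 • ρ R x2, fun h3 => hx20 (h5 ?_),
          U.add_mem hx2U (U.nsmul_mem hRU 3), hc32⟩
        calc x2 + x2 = (x2 + 2 • ρ R x2) + (x2 + 3 • ρ R x2) - 5 • ρ R x2 := by abel
          _ = 0 := by rw [h2, h3, hq, add_zero, sub_zero]
      · exact ⟨3, by simp, _, h2, U.add_mem hx2U (U.nsmul_mem hRU 2), hc23⟩
    · set u := x2 + ρ R (ρ R x2) with hu
      have hu2 : ρ R (ρ R u) = u := by rw [hu, map_add, map_add, hR4, add_comm]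
      have hRu : ρ R u ∈ U := hRinv _ (U.add_mem hx2U hR2U)
      by_cases h1 : u + ρ R u = 0
      · exact ⟨4, by simp, u, hp, U.add_mem hx2U hR2U, by
          rw [eq_neg_of_add_eq_zero_right h1, hneg]⟩
      · exact ⟨1, by simp, u + ρ R u, h1, U.add_mem (U.add_mem hx2U hR2U) hRu, by
          rw [map_add, hu2, one_nsmul, add_comm]⟩
  obtain ⟨p0, p1, p3, p4⟩ := hx3U
  -- the vector is an eigenvector for `gs`
  have hz : ∀ p ∈ gs.zip [1, 1, lr, la, lb], ρ (elt 10 p.1) x3 = p.2 • x3 := by
    intro p hp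
    obtain ⟨k, hk, rfl⟩ := List.getElem_of_mem hp
    simp only [List.length_zip, List.length_cons, List.length_nil] at hk
    have hkg : k < gs.length := by omega
    rw [List.getElem_zip]
    have hcv : c k = elt 10 gs[k] := by rw [hc, List.getD_eq_getElem _ _ hkg]
    rw [← hcv]
    have hk5 : k < 5 := by omega
    interval_cases k
    · rw [p0]; exact (one_nsmul x3).symm
    · rw [p1]; exact (one_nsmul x3).symm
    · exact hx3
    · exact p3
    · exact p4
  have hmem : [1, 1, lr, la, lb] ∈ allPhases := by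
    simp only [allPhases, List.mem_flatMap, List.mem_map]
    exact ⟨lr, hlr, la, hla, lb, hlb, rfl⟩
  have hcov := List.all_eq_true.1 phases_cover _ hmem
  simp only [Bool.or_eq_true, List.any_eq_true, List.contains_iff_mem] at hcov
  rcases hcov with hcov | ⟨m, hm, hcov⟩
  · exact hx30 (kill_target ρ hq h hcov hz)
  · have hmo := moves_ok
    simp only [okMoves, Bool.and_eq_true, List.all_eq_true] at hmo
    obtain ⟨⟨hme, hml⟩, hmz⟩ := hmo.2 m hm
    set C := elt 10 m.1
    have hne' : ρ C x3 ≠ 0 := fun h0 => hx30 (by rw [← act_cancel' ρ C x3, h0, map_zero])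
    refine hne' (kill_target ρ hq h hcov fun p hp => ?_)
    obtain ⟨k, hk, rfl⟩ := List.getElem_of_mem hp
    simp only [movePhase, List.length_zip, List.length_map] at hk
    have hkg : k < gs.length := by omega
    have hkm : k < m.2.length := by omega
    simp only [List.getElem_zip, movePhase, List.getElem_map]
    have hmk := hmz _ (List.getElem_mem (show k < (gs.zip m.2).length by simp [hkg, hkm]))
    rw [List.getElem_zip] at hmk
    rw [← act_mul, move_spec hgs hme (hgs _ (List.getElem_mem hkg)) hmk, act_mul]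
    have hww : ∀ w : List ℕ, (∀ a ∈ w, Nat.blt a gs.length = true) →
        ρ (wordProd 10 gs w) x3 =
          (w.map fun a => [1, 1, lr, la, lb].getD a 1).prod • x3 := by
      intro w hw
      induction w with
      | nil => simp [wordProd]
      | cons a w ih =>
        have ha : a < gs.length := by simpa using hw a (List.mem_cons_self ..)
        have hap : a < [1, 1, lr, la, lb].length := by
          have : gs.length = 5 := rfl
          simp only [List.length_cons, List.length_nil]; omega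
        have hmemz : (gs[a], [1, 1, lr, la, lb][a]) ∈ gs.zip [1, 1, lr, la, lb] :=
          List.mem_iff_getElem.2 ⟨a, by simp only [List.length_zip]; omega, List.getElem_zip⟩
        have e1 : wordProd 10 gs (a :: w) = elt 10 gs[a] * wordProd 10 gs w := by
          rw [wordProd, wordProd, List.map_cons, List.prod_cons, List.getD_eq_getElem _ _ ha]
          all_goals rfl
        rw [e1, act_mul, ih fun b hb => hw b (List.mem_cons_of_mem _ hb), map_nsmul, hz _ hmemz,
          ← mul_nsmul', List.map_cons, List.prod_cons, List.getD_eq_getElem _ _ hap, Nat.mul_comm]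
    simp only [okMove, Bool.and_eq_true, List.all_eq_true] at hmk
    rw [hww _ hmk.1, map_nsmul]
    exact (nsmul_mod hq _ _).symm

end

end CfsgLib.AltModFixed.Five
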