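import Cfsg.Agent.Lib.AltModFixed.TwoSeeds

/-! Certificate data for fixed vectors in modules of alternating groups. -/

set_option autoImplicit false
set_option maxRecDepth 20000

namespace CfsgLib.AltModFixed.Two

def pc : List Elem :=
  [⟨32302707216, [101, 135]⟩, ⟨27253813776, [117, 134]⟩, ⟨32318374416, [67, 135]⟩, ⟨32318435616, [33, 135]⟩, ⟨36344828976, [49, 66]⟩, ⟨18020333136, [81, 98, 115, 132]⟩]

def rules : List (List ℕ × List (List ℕ)) :=
  [([], []),
    ([], [[0]]),
    ([], [[0], [1, 0]]),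
    ([], [[0], [1, 0], [2]]),
    ([], [[0], [1], [3], [2]]),
    ([], [[3, 2], [4], [2], [2, 0], [1]])]

def k6words : List (List ℕ) := [[5, 4], [1], [4, 3, 1]]

end CfsgLib.AltModFixed.Two
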