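import Cfsg.Agent.Lib.AltModFixed.Basic
import Cfsg.Agent.Lib.AltModFixed.Two2
import Cfsg.Agent.Lib.AltModFixed.Two3
import Cfsg.Agent.Lib.AltModFixed.Two4
import Cfsg.Agent.Lib.AltModFixed.Two6
import Cfsg.Agent.Lib.AltModFixed.TwoPc

/-!
# A vector with a non-solvable stabilizer in every module of `Alt(9)` of exponent 2
-/

set_option autoImplicit false

namespace CfsgLib.AltModFixed.Two

open Equiv

/-- the conjugation of `Alt(9)` by the transposition `(7 8)` -/
noncomputable def tw : Alt 9 ≃* Alt 9 :=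
  MulAut.conjNormal (swap (7 : Fin 9) 8)

theorem tw_code {e : Elem} (he : okE 9 e = true) {e' : Elem} (he' : okE 9 e' = true)
    (h : weq 9 [e'.code, 32318435856] [32318435856, e.code] = true)
    (hc : ∀ k : Fin 9, gd 32318435856 (k : ℕ) = ((swap (7 : Fin 9) 8 k : Fin 9) : ℕ)) :
    tw (elt 9 e) = elt 9 e' := by
  apply Subtype.ext
  refine Equiv.ext fun i => Fin.ext ?_
  have h1 := Nat.eq_of_beq_eq_true (List.all_eq_true.1 h _
    (List.mem_range.2 (swap (7 : Fin 9) 8 i).is_lt))
  simp only [ev, List.foldr_cons, List.foldr_nil] at h1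
  rw [hc, elt_isCode he, elt_isCode he', hc] at h1
  simpa [tw, MulAut.conjNormal_apply, Perm.mul_apply] using h1.symm

variable {V : Type*} [AddCommGroup V] (ρ : Alt 9 →* AddMonoid.End V)

theorem noFix_one (hq : ∀ x : V, 2 • x = 0) {k : List Elem} {C : Cert}
    {seeds : List (List Elem)} (hg : C.gens = k.map fun e => (e, 1)) (hl : C.lgens = [])
    (hok : ok 9 2 seeds C = true) (hs : NoFix ρ seeds) : NoFix ρ [k] := by
  intro s hs' x hx
  rw [List.mem_singleton] at hs'
  subst hs'
  refine sound ρ Nat.prime_two hq hok hs (AddMonoidHom.id V) ?_ x ?_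
  · simp [hl]
  · rw [hg]
    intro g hg'
    obtain ⟨e, he, rfl⟩ := List.mem_map.1 hg'
    rw [one_nsmul]; exact hx e he

theorem wits_ok : okWits 9 hs wit = true := by decide +kernel

theorem fix2 (hq : ∀ x : V, 2 • x = 0) (h : NSFree ρ) : NoFix ρ [k2] :=
  noFix_one ρ hq rfl rfl Two2.cert_ok
    (noFix_append ρ (noFix_of_wits ρ wits_ok h) (fun _ hs => by simp at hs))

theorem fix3 (hq : ∀ x : V, 2 • x = 0) (h : NSFree ρ) : NoFix ρ [k3] :=
  noFix_one ρ hq rfl rfl Two3.cert_ok (noFix_append ρ (noFix_of_wits ρ wits_ok h) (fix2 ρ hq h))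

theorem fix4 (hq : ∀ x : V, 2 • x = 0) (h : NSFree ρ) : NoFix ρ [k4] :=
  noFix_one ρ hq rfl rfl Two4.cert_ok (noFix_append ρ (noFix_of_wits ρ wits_ok h) (fix2 ρ hq h))

def okTwist : Bool :=
  k4.all (okE 9) && k5.all (okE 9) && Nat.beq k4.length k5.length &&
    ((List.range 9).all fun k =>
      Nat.beq (gd 32318435856 k) (bif Nat.beq k 7 then 8 else bif Nat.beq k 8 then 7 else k)) &&
    (k4.zip k5).all fun p => weq 9 [p.2.code, 32318435856] [32318435856, p.1.code]

theorem twist_ok : okTwist = true := by decide +kernel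

theorem fix5 (hq : ∀ x : V, 2 • x = 0) (h : NSFree ρ) : NoFix ρ [k5] := by
  let ρ' : Alt 9 →* AddMonoid.End V := ρ.comp tw.toMonoidHom
  have h' : NSFree ρ' := by
    intro x hx
    refine h x fun hsol => hx ?_
    have e : (stab ρ x).comap tw.toMonoidHom = stab ρ' x := rfl
    rw [← e]
    haveI := hsol
    exact Group.isSolvable_of_isSolvable_injective (G' := stab ρ x)
      (f := ⟨⟨fun g => ⟨tw g.1, g.2⟩, Subtype.ext (map_one tw)⟩,
        fun a b => Subtype.ext (map_mul tw a.1 b.1)⟩)
      (fun a b hab => Subtype.ext (tw.injective (congrArg Subtype.val hab)))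
  intro s hs x hx
  rw [List.mem_singleton] at hs
  subst hs
  refine fix4 ρ' hq h' k4 (List.mem_singleton.2 rfl) x fun e he => ?_
  have ht := twist_ok
  simp only [okTwist, Bool.and_eq_true, List.all_eq_true] at ht
  obtain ⟨⟨⟨⟨h4, h5⟩, hlen⟩, hcode⟩, hzip⟩ := ht
  obtain ⟨i, hi, rfl⟩ := List.getElem_of_mem he
  have hi5 : i < k5.length := by rw [← nbeq_iff.1 hlen]; exact hi
  have hz := hzip _ (List.getElem_mem (show i < (k4.zip k5).length by simp [hi, hi5]))
  rw [List.getElem_zip] at hz
  have hc : ∀ k : Fin 9, gd 32318435856 (k : ℕ) = ((swap (7 : Fin 9) 8 k : Fin 9) : ℕ) := by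
    intro k
    rw [Nat.eq_of_beq_eq_true (hcode _ (List.mem_range.2 k.is_lt))]
    revert k; decide
  exact (congrArg (fun g => ρ g x)
    (tw_code (h4 _ (List.getElem_mem hi)) (h5 _ (List.getElem_mem hi5)) hz hc)).trans
      (hx _ (List.getElem_mem hi5))

theorem fix6 (hq : ∀ x : V, 2 • x = 0) (h : NSFree ρ) : NoFix ρ [k6] := by
  refine noFix_one ρ hq rfl rfl Two6.cert_ok (noFix_append ρ (noFix_of_wits ρ wits_ok h) ?_)
  intro s hs
  rcases List.mem_cons.1 hs with rfl | hs
  · exact fix3 ρ hq h k3 (List.mem_singleton.2 rfl)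
  rcases List.mem_cons.1 hs with rfl | hs
  · exact fix4 ρ hq h k4 (List.mem_singleton.2 rfl)
  exact fix5 ρ hq h s hs

def okPc : Bool :=
  pc.all (okE 9) && k6.all (okE 9) && Nat.beq rules.length pc.length &&
    ((List.range pc.length).all fun i =>
      (rules.getD i ([], [])).1.all (fun a => Nat.blt a i) &&
      weq 9 [(pc.getD i ⟨0, []⟩).code, (pc.getD i ⟨0, []⟩).code]
        (wordCodes pc (rules.getD i ([], [])).1) &&
      (List.range i).all fun j =>
        ((rules.getD i ([], [])).2.getD j []).all (fun a => Nat.blt a i) &&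
        weq 9 [(pc.getD j ⟨0, []⟩).code, (pc.getD i ⟨0, []⟩).code]
          ((pc.getD i ⟨0, []⟩).code :: wordCodes pc ((rules.getD i ([], [])).2.getD j []))) &&
    Nat.beq k6words.length k6.length &&
    (k6.zip k6words).all fun p =>
      p.2.all (fun a => Nat.blt a pc.length) && weq 9 [p.1.code] (wordCodes pc p.2)

theorem pc_ok : okPc = true := by decide +kernel

/-- Every non-zero module of exponent 2 of `Alt(9)` has a non-zero vector with a non-solvable
stabilizer. -/
theorem exists_fixed (hq : ∀ x : V, 2 • x = 0) [Nontrivial V] :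
    ∃ x : V, x ≠ 0 ∧ ¬ Group.IsSolvable (stab ρ x) := by
  by_contra hne
  push Not at hne
  have h : NSFree ρ := fun x hx => by_contra fun h0 => hx (hne x h0)
  have hp := pc_ok
  simp only [okPc, Bool.and_eq_true, List.all_eq_true] at hp
  obtain ⟨⟨⟨⟨⟨hpc, hk6⟩, -⟩, hrule⟩, hlen⟩, hwords⟩ := hp
  let u : ℕ → Alt 9 := fun i => elt 9 (pc.getD i ⟨0, []⟩)
  have hadd : ∀ {y : V} {g : Alt 9} {w : List ℕ} {i : ℕ}, g = wordProd 9 pc w →
      (∀ a ∈ w, a < i) → (∀ j < i, ρ (u j) y = y) → ρ g y = y := by
    rintro y g w i rfl hw hy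
    refine (mem_stab ρ).1 ((stab ρ y).list_prod_mem fun z hz => ?_)
    obtain ⟨a, ha, rfl⟩ := List.mem_map.1 hz
    exact hy a (hw a ha)
  have chain : ∀ i ≤ pc.length, ∃ x : V, x ≠ 0 ∧ ∀ j < i, ρ (u j) x = x := by
    intro i
    induction i with
    | zero =>
      intro _
      obtain ⟨x, hx⟩ := exists_ne (0 : V)
      exact ⟨x, hx, fun j hj => absurd hj (Nat.not_lt_zero j)⟩
    | succ i ih =>
      intro hi
      obtain ⟨x, hx0, hx⟩ := ih (by omega)
      have hr := hrule i (List.mem_range.2 (by omega))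
      simp only [List.mem_range] at hr
      obtain ⟨⟨hw, hsq⟩, hconj⟩ := hr
      have hi' : pc.getD i ⟨0, []⟩ ∈ pc := getD_mem (by simpa using (show i < pc.length by omega))
      have hwl : ∀ {w : List ℕ}, (∀ a ∈ w, Nat.blt a i = true) →
          w.all (fun a => Nat.blt a pc.length) = true := by
        intro w hw
        simp only [List.all_eq_true]
        intro a ha
        have := hw a ha
        simp only [Nat.blt_eq] at this ⊢
        omega
      have hsq' : u i * u i = wordProd 9 pc (rules.getD i ([], [])).1 := by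
        simpa only [wordProd, u, List.prod_cons, List.prod_nil, mul_one] using weq_prod
          (List.Forall₂.cons (elt_isCode (hpc _ hi')) (forall₂_one (elt_isCode (hpc _ hi'))))
          (wordCodes_spec hpc (hwl hw)) hsq
      have hu2 : ρ (u i) (ρ (u i) x) = x := by
        rw [← act_mul]; exact hadd hsq' (fun a ha => by simpa using hw a ha) hx
      have hux : ∀ j < i, ρ (u j) (ρ (u i) x) = ρ (u i) x := by
        intro j hj
        obtain ⟨hcw, hce⟩ := hconj j hj
        have hj' : pc.getD j ⟨0, []⟩ ∈ pc :=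
          getD_mem (by simpa using (show j < pc.length by omega))
        have he : u j * u i = u i * wordProd 9 pc ((rules.getD i ([], [])).2.getD j []) := by
          simpa only [wordProd, u, List.prod_cons, List.prod_nil, mul_one] using weq_prod
            (List.Forall₂.cons (elt_isCode (hpc _ hj')) (forall₂_one (elt_isCode (hpc _ hi'))))
            (List.Forall₂.cons (elt_isCode (hpc _ hi')) (wordCodes_spec hpc (hwl hcw))) hce
        rw [← act_mul, he, act_mul]
        exact congrArg _ (hadd rfl (fun a ha => by simpa using hcw a ha) hx)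
      by_cases hz : x + ρ (u i) x = 0
      · refine ⟨x, hx0, fun j hj => ?_⟩
        rcases Nat.lt_succ_iff_lt_or_eq.1 hj with hj | rfl
        · exact hx j hj
        · have h2 : x + x = 0 := by rw [← two_nsmul]; exact hq x
          rw [← add_left_cancel_iff (a := x), hz, h2]
      · refine ⟨x + ρ (u i) x, hz, fun j hj => ?_⟩
        rcases Nat.lt_succ_iff_lt_or_eq.1 hj with hj | rfl
        · rw [map_add, hx j hj, hux j hj]
        · rw [map_add, hu2, add_comm]
  obtain ⟨x, hx0, hx⟩ := chain pc.length le_rfl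
  refine hx0 (fix6 ρ hq h k6 (List.mem_singleton.2 rfl) x fun e he => ?_)
  obtain ⟨i, hi, rfl⟩ := List.getElem_of_mem he
  have hi5 : i < k6words.length := by rw [nbeq_iff.1 hlen]; exact hi
  have hz := hwords _ (List.getElem_mem (show i < (k6.zip k6words).length by simp [hi, hi5]))
  rw [List.getElem_zip] at hz
  obtain ⟨hw, he⟩ := hz
  have hw' : k6words[i].all (fun a => Nat.blt a pc.length) = true := by
    simpa [List.all_eq_true] using hw
  refine hadd ?_ (fun a ha => by simpa using hw a ha) hx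
  simpa only [wordProd, List.prod_cons, List.prod_nil, mul_one] using weq_prod (forall₂_one (elt_isCode (hk6 _ (List.getElem_mem hi))))
    (wordCodes_spec hpc hw') he

end CfsgLib.AltModFixed.Two
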