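import Cfsg.Agent.Lib.AltModFixed.Reduce
import Cfsg.Agent.Lib.AltModFixed.Two
import Cfsg.Agent.Lib.AltModFixed.Five
import Cfsg.Agent.Lib.Lie.AltSection.Alternating

/-!
# Alternating sections and solvable centralizers of `p`-elements
-/

set_option autoImplicit false

namespace CfsgLib.AltModFixed

open Reduce

universe u

theorem modFixed_two : ModFixed.{u} 2 (4 + 5) := fun V _ _ ρ hq => by
  obtain ⟨x, hx, hs⟩ := Two.exists_fixed ρ hq
  exact ⟨x, hx, stab ρ x, fun g hg => hg, hs⟩

theorem modFixed_five : ModFixed.{u} 5 (5 + 5) := fun V _ _ ρ hq => by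
  obtain ⟨x, hx, hs⟩ := Five.exists_fixed ρ hq
  exact ⟨x, hx, stab ρ x, fun g hg => hg, hs⟩

theorem dvd_card_alt {p m : ℕ} (hp : p.Prime) (hp2 : p ≠ 2) (hpm : p ≤ m) :
    p ∣ Nat.card (alternatingGroup (Fin m)) := by
  haveI : Nontrivial (Fin m) := Fin.nontrivial_iff_two_le.2 (hp.two_le.trans hpm)
  have h : 2 * Nat.card (alternatingGroup (Fin m)) = m.factorial := by
    rw [two_mul_nat_card_alternatingGroup, Nat.card_perm, Nat.card_fin]
  have h2 : p ∣ 2 * Nat.card (alternatingGroup (Fin m)) := h ▸ Nat.dvd_factorial hp.pos hpm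
  exact (Nat.Coprime.dvd_of_dvd_mul_left ((Nat.coprime_primes hp Nat.prime_two).2 hp2) h2)

/-- A subgroup minimal among those mapping onto `H`. -/
theorem exists_minimal_cover {G H : Type*} [Group G] [Finite G] [Group H]
    (h : ∃ (K : Subgroup G) (ψ : K →* H), Function.Surjective ψ) :
    ∃ (K : Subgroup G) (ψ : K →* H), Function.Surjective ψ ∧ ψ.ker ≤ frattini K := by
  classical
  have hn : ∃ k, ∃ (K : Subgroup G) (ψ : K →* H), Function.Surjective ψ ∧ Nat.card K = k := by
    obtain ⟨K, ψ, hψ⟩ := h; exact ⟨_, K, ψ, hψ, rfl⟩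
  obtain ⟨K, ψ, hψ, hcard⟩ := Nat.find_spec hn
  refine ⟨K, ψ, hψ, ?_⟩
  rw [frattini, Order.radical]
  refine le_iInf₂ fun M hM => ?_
  by_contra hle
  have htop : M ⊔ ψ.ker = ⊤ := hM.2 _ (lt_of_le_of_ne le_sup_left fun e => hle (e ▸ le_sup_right))
  have hsurj : Function.Surjective (ψ.comp M.subtype) := by
    intro y
    obtain ⟨x, rfl⟩ := hψ y
    obtain ⟨a, ha, b, hb, rfl⟩ := Subgroup.mem_sup_of_normal_right.1 (htop ▸ Subgroup.mem_top x)
    exact ⟨⟨a, ha⟩, by simp [MonoidHom.mem_ker.1 hb]⟩
  let e : M ≃* M.map K.subtype := M.equivMapOfInjective K.subtype K.subtype_injective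
  refine Nat.find_min hn ?_ ⟨M.map K.subtype, (ψ.comp M.subtype).comp e.symm.toMonoidHom,
    hsurj.comp e.symm.surjective, rfl⟩
  rw [← hcard, ← Nat.card_congr e.toEquiv]
  exact lt_of_le_of_ne (Nat.card_le_card_of_injective _ M.subtype_injective)
    fun he => hM.1 (Subgroup.card_eq_iff_eq_top M |>.1 he)

/-- The degree of an alternating section when noncentral `p`-elements have solvable centralizers. -/
theorem degree_bound {G : Type u} [Group G] [Finite G] (p : ℕ) [Fact p.Prime] (hp3 : p ≠ 3)
    (h : ∀ x : G, x ∉ Subgroup.center G → (∃ k : ℕ, orderOf x = p ^ k) →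
      Group.IsSolvable (Subgroup.centralizer ({x} : Set G)))
    {d : ℕ} {H : Subgroup G} {N : Subgroup H} [N.Normal]
    (e : H ⧸ N ≃* alternatingGroup (Fin d)) :
    d ≤ p + 4 + (if p = 2 then 2 else 0) := by
  have hp := (Fact.out : p.Prime)
  by_contra hd
  set m := if p = 2 then 4 else p with hm
  have hmd : m + 5 ≤ d := by
    rw [hm]; split_ifs with h2
    · subst h2; simp at hd; omega
    · rw [if_neg h2] at hd; omega
  obtain ⟨K, φ, hφ, hfr⟩ :=
    exists_minimal_cover (CfsgLib.Lie.AltSection.exists_section hmd H N ⟨e⟩)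
  have hK : ∀ x : K, x ∉ Subgroup.center K → (∃ k : ℕ, orderOf x = p ^ k) →
      Group.IsSolvable (Subgroup.centralizer ({x} : Set K)) := by
    intro x hx hord
    haveI := h (x : G) (fun hc => hx (Subgroup.mem_center_iff.2 fun y =>
      Subtype.ext (Subgroup.mem_center_iff.1 hc y))) (by rw [Subgroup.orderOf_coe]; exact hord)
    refine Group.isSolvable_of_isSolvable_injective
      (f := MonoidHom.codRestrict (K.subtype.comp (Subgroup.centralizer ({x} : Set K)).subtype)
        (Subgroup.centralizer ({(x : G)} : Set G)) fun y => ?_) fun a b hab => ?_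
    · rw [Subgroup.mem_centralizer_singleton_iff]
      exact congrArg Subtype.val (Subgroup.mem_centralizer_singleton_iff.1 y.2)
    · have h1 := congrArg Subtype.val hab
      exact Subtype.ext (K.subtype_injective h1)
  have hpm : p ∣ Nat.card (alternatingGroup (Fin m)) := by
    by_cases h2 : p = 2
    · subst h2
      rw [hm, if_pos rfl, nat_card_alternatingGroup, Nat.card_fin]
      decide
    · rw [hm, if_neg h2]; exact dvd_card_alt hp h2 le_rfl
  refine false_of_cover φ hφ hfr hK hpm ?_
  by_cases h2 : p = 2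
  · subst h2; exact Or.inr modFixed_two
  · by_cases h5 : p = 5
    · subst h5; exact Or.inr modFixed_five
    · left
      have := hp.two_le
      have h4 : p ≠ 4 := fun e => by subst e; exact absurd hp (by decide)
      have h6 : p ≠ 6 := fun e => by subst e; exact absurd hp (by decide)
      omega

end CfsgLib.AltModFixed
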