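import Cfsg.Agent.Lib.Coprime.Action
import Mathlib.GroupTheory.Frattini
import Mathlib.GroupTheory.Nilpotent
import Mathlib.GroupTheory.SchurZassenhaus
import Mathlib.GroupTheory.SpecificGroups.Alternating.Simple
import Mathlib.GroupTheory.Perm.ViaEmbedding
import Mathlib.Algebra.Group.Hom.End
import Mathlib.Algebra.Group.Subgroup.ZPowers.Lemmas

/-!
# Minimal covers of alternating groups with solvable centralizers of `p`-elements
-/

set_option autoImplicit false
set_option linter.style.haveILetI false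

namespace CfsgLib.AltModFixed.Reduce

open Subgroup CfsgLib.Coprime
open scoped commutatorElement

universe u

theorem not_isSolvable_alt5 : ¬ Group.IsSolvable (alternatingGroup (Fin 5)) := by
  intro h
  exact Equiv.Perm.not_isSolvable_fin_5 (Group.isSolvable_of_ker_le_range
    (alternatingGroup (Fin 5)).subtype (Equiv.Perm.sign (α := Fin 5))
    (by rw [Subgroup.range_subtype]; exact le_rfl))

/-- the embedding of `Alt(5)` on the last five points -/
noncomputable def right (m : ℕ) : alternatingGroup (Fin 5) →* alternatingGroup (Fin (m + 5)) :=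
  MonoidHom.codRestrict
    ((finSumFinEquiv.permCongrHom).toMonoidHom.comp
      ((Equiv.Perm.sumCongrHom (Fin m) (Fin 5)).comp
        ((MonoidHom.inr _ _).comp (alternatingGroup (Fin 5)).subtype))) _
    fun g => by
      have := g.2
      simp only [Equiv.Perm.mem_alternatingGroup] at this ⊢
      simpa [Equiv.permCongrHom, Equiv.Perm.sign_permCongr, Equiv.Perm.sumCongrHom] using this

/-- the embedding of `Alt(m)` on the first `m` points -/
noncomputable def left (m : ℕ) : alternatingGroup (Fin m) →* alternatingGroup (Fin (m + 5)) :=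
  MonoidHom.codRestrict
    ((finSumFinEquiv.permCongrHom).toMonoidHom.comp
      ((Equiv.Perm.sumCongrHom (Fin m) (Fin 5)).comp
        ((MonoidHom.inl _ _).comp (alternatingGroup (Fin m)).subtype))) _
    fun g => by
      have := g.2
      simp only [Equiv.Perm.mem_alternatingGroup] at this ⊢
      simpa [Equiv.permCongrHom, Equiv.Perm.sign_permCongr, Equiv.Perm.sumCongrHom] using this

theorem right_injective (m : ℕ) : Function.Injective (right m) := by
  intro a b h
  have h1 := congrArg Subtype.val h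
  simp only [right, MonoidHom.codRestrict_apply, MonoidHom.comp_apply] at h1
  exact Subtype.ext (Prod.mk.inj (Equiv.Perm.sumCongrHom_injective
    (finSumFinEquiv.permCongrHom.injective h1))).2

theorem left_injective (m : ℕ) : Function.Injective (left m) := by
  intro a b h
  have h1 := congrArg Subtype.val h
  simp only [left, MonoidHom.codRestrict_apply, MonoidHom.comp_apply] at h1
  exact Subtype.ext (Prod.mk.inj (Equiv.Perm.sumCongrHom_injective
    (finSumFinEquiv.permCongrHom.injective h1))).1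

theorem left_right_comm (m : ℕ) (a : alternatingGroup (Fin m)) (b : alternatingGroup (Fin 5)) :
    left m a * right m b = right m b * left m a := by
  apply Subtype.ext
  simp only [left, right, Subgroup.coe_mul, MonoidHom.codRestrict_apply, MonoidHom.comp_apply,
    ← map_mul]
  simp

theorem not_isSolvable_range_right (m : ℕ) : ¬ Group.IsSolvable (right m).range := fun h => by
  haveI := h
  exact not_isSolvable_alt5 (Group.isSolvable_of_isSolvable_injective
    (f := (right m).rangeRestrict)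
    (fun a b e => right_injective m (congrArg Subtype.val e)))

theorem not_isSolvable_alt (m : ℕ) : ¬ Group.IsSolvable (alternatingGroup (Fin (m + 5))) :=
  fun h => by
    haveI := h
    exact not_isSolvable_alt5
      (Group.isSolvable_of_isSolvable_injective (right_injective m))

theorem alt_simple (m : ℕ) : IsSimpleGroup (alternatingGroup (Fin (m + 5))) :=
  alternatingGroup.isSimpleGroup (by simp)

theorem center_alt (m : ℕ) : Subgroup.center (alternatingGroup (Fin (m + 5))) = ⊥ := by
  haveI := alt_simple m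
  refine (Subgroup.Normal.eq_bot_or_eq_top (inferInstance : (Subgroup.center _).Normal)).resolve_right
    fun h => not_isSolvable_alt m (IsSimpleGroup.comm_iff_isSolvable.1 fun a b => ?_)
  have ha : b ∈ Subgroup.center (alternatingGroup (Fin (m + 5))) := h ▸ Subgroup.mem_top b
  exact Subgroup.mem_center_iff.1 ha a

section

variable {K : Type u} [Group K]

theorem not_solvable_of_map {H : Type*} [Group H] (f : K →* H) {D : Subgroup K} {E : Subgroup H}
    (hE : ¬ Group.IsSolvable E) (h : E ≤ D.map f) : ¬ Group.IsSolvable D := fun hD => by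
  haveI := hD
  haveI : Group.IsSolvable (D.map f) :=
    Group.isSolvable_of_surjective (f := f.subgroupMap D) (f.subgroupMap_surjective D)
  exact hE (Group.isSolvable_of_isSolvable_injective (f := Subgroup.inclusion h)
    (Subgroup.inclusion_injective h))

/-- If `[k, r]` is central for every `k ∈ D` and `r` has a solvable centralizer, `D` is solvable. -/
theorem solvable_of_comm_central {D : Subgroup K} {r : K}
    (hD : ∀ k ∈ D, k * r * k⁻¹ * r⁻¹ ∈ Subgroup.center K)
    (hr : Group.IsSolvable (Subgroup.centralizer ({r} : Set K))) : Group.IsSolvable D := by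
  haveI : Group.IsSolvable (Subgroup.center K) :=
    Group.isSolvable_of_comm fun a b => Subtype.ext (Subgroup.mem_center_iff.1 b.2 a)
  let f : D →* Subgroup.center K :=
    MonoidHom.mk' (fun k => ⟨(k : K) * r * (k : K)⁻¹ * r⁻¹, hD k k.2⟩) fun a b => by
      apply Subtype.ext
      have hb := Subgroup.mem_center_iff.1 (hD b b.2) (a : K)
      show (↑(a * b) : K) * r * (↑(a * b) : K)⁻¹ * r⁻¹ = _
      rw [Subgroup.coe_mul]
      calc (a : K) * b * r * ((a : K) * b)⁻¹ * r⁻¹
          = (a : K) * ((b : K) * r * (b : K)⁻¹ * r⁻¹) * (r * (a : K)⁻¹ * r⁻¹) := by group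
        _ = ((b : K) * r * (b : K)⁻¹ * r⁻¹) * ((a : K) * r * (a : K)⁻¹ * r⁻¹) := by rw [hb]; group
        _ = _ := (Subgroup.mem_center_iff.1 (hD b b.2) _).symm
  haveI := hr
  let C : Subgroup D := (Subgroup.centralizer ({r} : Set K)).subgroupOf D
  haveI : Group.IsSolvable C := Group.isSolvable_of_isSolvable_injective
    (f := MonoidHom.codRestrict ((D.subtype).comp C.subtype)
      (Subgroup.centralizer ({r} : Set K)) fun c => c.2)
    (fun a b e => by
      have h1 := congrArg Subtype.val e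
      exact Subtype.ext (D.subtype_injective h1))
  refine Group.isSolvable_of_ker_le_range C.subtype f fun k hk => ?_
  rw [Subgroup.range_subtype, Subgroup.mem_subgroupOf, Subgroup.mem_centralizer_singleton_iff]
  have h1 : (k : K) * r * (k : K)⁻¹ * r⁻¹ = 1 := congrArg Subtype.val (MonoidHom.mem_ker.1 hk)
  rw [mul_inv_eq_one, mul_inv_eq_iff_eq_mul] at h1
  exact h1

variable {n p : ℕ} [Fact p.Prime] (φ : K →* alternatingGroup (Fin n))

theorem exists_p_lift [Finite K] (hφ : Function.Surjective φ) {σ : alternatingGroup (Fin n)}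
    (hσ : orderOf σ = p) : ∃ x : K, (∃ k : ℕ, orderOf x = p ^ k) ∧ φ x = σ := by
  obtain ⟨y, rfl⟩ := hφ σ
  have hp := (Fact.out : p.Prime)
  obtain ⟨a, m, hm, ha⟩ := Nat.exists_eq_pow_mul_and_not_dvd (orderOf_pos y).ne' p hp.ne_one
  obtain ⟨j, hj⟩ := Nat.exists_mul_mod_eq_one_of_coprime
    ((hp.coprime_iff_not_dvd.2 hm).symm) hp.one_lt
  refine ⟨y ^ (m * j), ?_, ?_⟩
  · obtain ⟨k, -, hk⟩ := (Nat.dvd_prime_pow hp).1 (orderOf_dvd_of_pow_eq_one
      (show (y ^ (m * j)) ^ p ^ a = 1 by
        rw [← pow_mul, show m * j * p ^ a = (p ^ a * m) * j by ring, pow_mul, ← ha,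
          pow_orderOf_eq_one, one_pow]))
    exact ⟨k, hk⟩
  · rw [map_pow, ← pow_mod_orderOf, hσ, hj.2, pow_one]

end

section

variable {H : Type*} [Group H]

/-- A non-trivial normal subgroup of a nilpotent group meets the centre. -/
theorem exists_center_mem [Group.IsNilpotent H] {N : Subgroup H} [N.Normal] (hN : N ≠ ⊥) :
    ∃ x ∈ N, x ∈ Subgroup.center H ∧ x ≠ 1 := by
  obtain ⟨c, hc⟩ := Group.IsNilpotent.nilpotent H
  obtain ⟨x, hx, hx1⟩ := (Subgroup.bot_or_exists_ne_one N).resolve_left hN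
  have key : ∀ i, ∀ x ∈ N, x ∈ Subgroup.upperCentralSeries H i → x ≠ 1 →
      ∃ y ∈ N, y ∈ Subgroup.center H ∧ y ≠ 1 := by
    intro i
    induction i with
    | zero => intro x _ hx hx1; exact absurd (by simpa using hx) hx1
    | succ i ih =>
      intro x hxN hx hx1
      rw [Subgroup.mem_upperCentralSeries_succ_iff] at hx
      by_cases hcen : ∀ y : H, ⁅x, y⁆ = 1
      · exact ⟨x, hxN, Subgroup.mem_center_iff.2 fun y => by
          have := hcen y
          rw [commutatorElement_def, mul_inv_eq_one, mul_inv_eq_iff_eq_mul] at this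
          exact this.symm, hx1⟩
      · push Not at hcen
        obtain ⟨y, hy⟩ := hcen
        refine ih _ ?_ (hx y) hy
        rw [commutatorElement_def, show x * y * x⁻¹ * y⁻¹ = x * (y * x⁻¹ * y⁻¹) by group]
        exact N.mul_mem hxN ((inferInstance : N.Normal).conj_mem _ (N.inv_mem hxN) y)
  exact key c x hx (hc ▸ Subgroup.mem_top x) hx1

end

/-- every non-zero module of exponent `p` has a vector with a non-solvable stabilizer -/
def ModFixed (p n : ℕ) : Prop :=
  ∀ (V : Type u) [AddCommGroup V] [Nontrivial V]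
    (ρ : alternatingGroup (Fin n) →* AddMonoid.End V), (∀ x : V, p • x = 0) →
      ∃ x : V, x ≠ 0 ∧ ∃ S : Subgroup (alternatingGroup (Fin n)),
        (∀ g ∈ S, ρ g x = x) ∧ ¬ Group.IsSolvable S

theorem prime_dvd_sixty : ∀ q < 61, q ∣ 60 → q.Prime → q < 7 := by decide +kernel

theorem card_mul_relIndex_of_le {G : Type*} [Group G] {A B : Subgroup G} (h : A ≤ B) :
    Nat.card A * A.relIndex B = Nat.card B := by
  rw [Subgroup.relIndex, ← Nat.card_congr (Subgroup.subgroupOfEquivOfLe h).toEquiv]
  exact Subgroup.card_mul_index _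

section

variable {K : Type u} [Group K] [Finite K] {p m : ℕ} [Fact p.Prime]
  (φ : K →* alternatingGroup (Fin (m + 5))) (hφ : Function.Surjective φ)
  (hK : ∀ x : K, x ∉ Subgroup.center K → (∃ k : ℕ, orderOf x = p ^ k) →
    Group.IsSolvable (Subgroup.centralizer ({x} : Set K)))

include hφ hK

theorem solvable_centralizer_lift {x : K} (hx : ∃ k : ℕ, orderOf x = p ^ k) (h1 : φ x ≠ 1) :
    Group.IsSolvable (Subgroup.centralizer ({x} : Set K)) := by
  refine hK x (fun hc => h1 ?_) hx
  have : φ x ∈ Subgroup.center (alternatingGroup (Fin (m + 5))) :=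
    Subgroup.mem_center_iff.2 fun g => by
      obtain ⟨y, rfl⟩ := hφ g
      rw [← map_mul, ← map_mul, Subgroup.mem_center_iff.1 hc y]
  rwa [center_alt, Subgroup.mem_bot] at this

/-- `p ≥ 7`: a Schur–Zassenhaus complement over the five remaining points fixes a lift. -/
theorem false_of_coprime {P : Subgroup K} [P.Normal] (hPp : IsPGroup p P) (hPR : P ≤ φ.ker)
    (hidx : ¬ p ∣ P.relIndex φ.ker) {σ : alternatingGroup (Fin m)} (hσ : orderOf σ = p)
    (hp : 7 ≤ p) : False := by
  have hpp := (Fact.out : p.Prime)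
  set t := left m σ with ht
  have hto : orderOf t = p := by rw [ht, orderOf_injective _ (left_injective m), hσ]
  set E := (right m).range with hE
  have hcomm : ∀ e ∈ E, e * t = t * e := by
    rintro e ⟨b, rfl⟩; exact (left_right_comm m σ b).symm
  set M : Subgroup K := (Subgroup.zpowers t).comap φ with hM
  set L : Subgroup K := E.comap φ with hL
  have hLM : L ≤ normalizer (M : Set K) := by
    intro l hl
    rw [Subgroup.mem_normalizer_iff]
    intro y
    simp only [hM, Subgroup.mem_comap, map_mul, map_inv]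
    have hc : Commute (φ l) t := hcomm _ hl
    constructor <;> intro hy
    · obtain ⟨j, hj⟩ := Subgroup.mem_zpowers_iff.1 hy
      rw [← hj, (hc.zpow_right j).eq, mul_inv_cancel_right]
      exact Subgroup.zpow_mem_zpowers t j
    · obtain ⟨j, hj⟩ := Subgroup.mem_zpowers_iff.1 hy
      have : φ y = t ^ j := by
        rw [← inv_mul_cancel_left (φ l) (t ^ j)]
        rw [show φ l * t ^ j = t ^ j * φ l from (hc.zpow_right j).eq, hj]
        group
      rw [this]; exact Subgroup.zpow_mem_zpowers t j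
  obtain ⟨x₀, hx₀o, hx₀⟩ := exists_p_lift φ hφ hto
  have hx₀M : x₀ ∈ M := by rw [hM, Subgroup.mem_comap, hx₀]; exact Subgroup.mem_zpowers t
  -- a Sylow subgroup of `M` containing the lift
  have hzp : IsPGroup p (Subgroup.zpowers x₀) := by
    obtain ⟨k, hk⟩ := hx₀o
    exact IsPGroup.of_card (n := k) (by rw [Nat.card_zpowers, hk])
  obtain ⟨S₁, hS₁⟩ := (hzp.comap_of_injective M.subtype M.subtype_injective :
    IsPGroup p ((Subgroup.zpowers x₀).subgroupOf M)).exists_le_sylow
  set S : Subgroup K := (S₁ : Subgroup M).map M.subtype with hS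
  have hSyl : IsSylowIn p S M := isSylowIn_map S₁
  have hxS : x₀ ∈ S :=
    ⟨⟨x₀, hx₀M⟩, hS₁ (Subgroup.mem_subgroupOf.2 (Subgroup.mem_zpowers x₀)), rfl⟩
  have hPS : P ≤ S := by
    have hPM : P ≤ M := fun y hy => by
      rw [hM, Subgroup.mem_comap, MonoidHom.mem_ker.1 (hPR hy)]; exact one_mem _
    obtain ⟨S₂, hS₂⟩ := (hPp.comap_of_injective M.subtype M.subtype_injective :
      IsPGroup p (P.subgroupOf M)).exists_le_sylow
    obtain ⟨g, hg⟩ := MulAction.exists_smul_eq M S₂ S₁
    intro y hy
    have h1 : (g : K)⁻¹ * y * (g : K) ∈ P := by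
      simpa using (inferInstance : P.Normal).conj_mem y hy (g : K)⁻¹
    have h2 : (⟨_, hPM h1⟩ : M) ∈ (S₂ : Subgroup M) := hS₂ (Subgroup.mem_subgroupOf.2 h1)
    have h3 : g * ⟨_, hPM h1⟩ * g⁻¹ ∈ (S₁ : Subgroup M) := by
      rw [← hg]
      exact ⟨⟨_, hPM h1⟩, h2, by simp [MulAut.conj_apply]⟩
    exact ⟨_, h3, by simp [mul_assoc]⟩
  set D : Subgroup K := normalizer (S : Set K) ⊓ L with hD
  have hDmap : ∀ e ∈ E, ∃ d ∈ D, φ d = e := by
    intro e he
    obtain ⟨l, rfl⟩ := hφ e
    obtain ⟨k, hk, hkS⟩ := (hSyl.conjBy (hLM (show l ∈ L from he))).exists_conj hSyl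
    rw [conjBy_conjBy] at hkS
    have hn : k * l ∈ normalizer (S : Set K) := conjBy_eq_self_iff.1 hkS
    obtain ⟨j, hj⟩ := Subgroup.mem_zpowers_iff.1 (show φ k ∈ Subgroup.zpowers t from hk)
    have hs : x₀ ^ (-j) ∈ S := S.zpow_mem hxS _
    have hφd : φ (x₀ ^ (-j) * (k * l)) = φ l := by
      rw [map_mul, map_zpow, hx₀, map_mul, ← hj, ← mul_assoc, ← zpow_add, neg_add_cancel,
        zpow_zero, one_mul]
    exact ⟨x₀ ^ (-j) * (k * l), Subgroup.mem_inf.2
      ⟨mul_mem (Subgroup.le_normalizer hs) hn, by rw [hL, Subgroup.mem_comap, hφd]; exact he⟩,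
      hφd⟩
  have hPD : P ≤ D := fun y hy => Subgroup.mem_inf.2
    ⟨Subgroup.le_normalizer (hPS hy), by
      rw [hL, Subgroup.mem_comap, MonoidHom.mem_ker.1 (hPR hy)]; exact one_mem _⟩
  have hRL : φ.ker ≤ L := fun y hy => by
    rw [hL, Subgroup.mem_comap, MonoidHom.mem_ker.1 hy]; exact one_mem _
  have hcardE : Nat.card E = 60 := by
    rw [hE, ← Nat.card_congr (MonoidHom.ofInjective (right_injective m)).toEquiv,
      nat_card_alternatingGroup, Nat.card_fin]
    rfl
  have hindex : φ.ker.relIndex L = 60 := by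
    have h1 : (L.map φ) = E := Subgroup.map_comap_eq_self_of_surjective hφ E
    have h3 : (φ.comp L.subtype).ker = φ.ker.subgroupOf L := rfl
    have h4 : Nat.card (φ.comp L.subtype).range = 60 := by
      rw [MonoidHom.range_comp, Subgroup.range_subtype, h1, hcardE]
    rw [Subgroup.relIndex, ← h3, Subgroup.index_ker, h4]
  have hcopD : ¬ p ∣ P.relIndex D := by
    intro hd
    have hPL : P.relIndex L = P.relIndex φ.ker * 60 := by
      rw [← hindex, Subgroup.relIndex_mul_relIndex P φ.ker L hPR hRL]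
    have hdvd : P.relIndex D ∣ P.relIndex L := by
      have h1 : Nat.card D ∣ Nat.card L := Subgroup.card_dvd_of_le inf_le_right
      rw [← card_mul_relIndex_of_le hPD, ← card_mul_relIndex_of_le (hPR.trans hRL)] at h1
      exact Nat.dvd_of_mul_dvd_mul_left Nat.card_pos h1
    rcases hpp.dvd_mul.1 (hPL ▸ hd.trans hdvd) with h | h
    · exact hidx h
    · exact absurd (prime_dvd_sixty p (Nat.lt_succ_of_le (Nat.le_of_dvd (by decide) h)) h hpp) (by omega)
  obtain ⟨kP, hkP⟩ := IsPGroup.iff_card.1 hPp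
  have hPcard : Nat.card (P.subgroupOf D) = p ^ kP := by
    rw [Nat.card_congr (Subgroup.subgroupOfEquivOfLe hPD).toEquiv, hkP]
  obtain ⟨Y₀, hY₀⟩ := Subgroup.exists_right_complement'_of_coprime (N := P.subgroupOf D) (by
    rw [hPcard]; exact Nat.Coprime.pow_left _ (hpp.coprime_iff_not_dvd.2 hcopD))
  set Y : Subgroup K := Y₀.map D.subtype with hY
  have hYcard : Nat.card Y = P.relIndex D := by
    rw [hY, Subgroup.card_map_of_injective D.subtype_injective]
    exact hY₀.symm.index_eq_card.symm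
  have hYmap : E ≤ Y.map φ := by
    intro e he
    obtain ⟨d, hd, rfl⟩ := hDmap e he
    obtain ⟨⟨a, b⟩, hab⟩ := hY₀.2 ⟨d, hd⟩
    refine ⟨((b : D) : K), ⟨b, b.2, rfl⟩, ?_⟩
    have h1 : ((a : D) : K) * ((b : D) : K) = d := congrArg (fun z : D => (z : K)) hab
    rw [← h1, map_mul, MonoidHom.mem_ker.1 (hPR (Subgroup.mem_subgroupOf.1 a.2)), one_mul]
  have hYns : ¬ Group.IsSolvable Y := not_solvable_of_map φ (not_isSolvable_range_right m) hYmap
  have hYS : Y ≤ normalizer (S : Set K) := fun y hy =>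
    (Subgroup.mem_inf.1 (Subgroup.map_subtype_le (K := Y₀) hy : y ∈ D)).1
  set S₀ : Subgroup K := S ⊓ φ.ker with hS₀
  have hnorm : normalizer (S : Set K) ≤ normalizer (S₀ : Set K) := by
    intro y hy
    rw [Subgroup.mem_normalizer_iff]
    intro z
    simp only [hS₀, Subgroup.mem_inf]
    exact and_congr (Subgroup.mem_normalizer_iff.1 hy z)
      ⟨fun hz => (MonoidHom.normal_ker φ).conj_mem z hz y, fun hz => by
        simpa [mul_assoc] using (MonoidHom.normal_ker φ).conj_mem _ hz y⁻¹⟩
  have hS₀p : IsPGroup p S₀ := hSyl.isPGroup.to_le inf_le_left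
  obtain ⟨k₀, hk₀⟩ := IsPGroup.iff_card.1 hS₀p
  haveI : Group.IsNilpotent S₀ := hS₀p.isNilpotent
  obtain ⟨c, hcS, hcfix⟩ := exists_fixed_in_coset (A := Y) (N := S₀) (hYS.trans hnorm)
    (by
      rw [hYcard, hk₀]
      exact Nat.Coprime.pow_right _ ((hpp.coprime_iff_not_dvd.2 hcopD).symm))
    (Or.inr inferInstance) (k := x₀) (hnorm (Subgroup.le_normalizer hxS)) fun a ha => by
      refine Subgroup.mem_inf.2 ⟨mul_mem ((Subgroup.mem_normalizer_iff.1 (hYS ha) x₀).1 hxS)
        (inv_mem hxS), ?_⟩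
      have haL : φ a ∈ E :=
        (Subgroup.mem_inf.1 (Subgroup.map_subtype_le (K := Y₀) ha : a ∈ D)).2
      rw [MonoidHom.mem_ker, map_mul, map_mul, map_mul, map_inv, map_inv, hx₀, hcomm _ haL]
      group
  have hφx : φ (x₀ * c) = t := by
    rw [map_mul, MonoidHom.mem_ker.1 (Subgroup.mem_inf.1 hcS).2, mul_one, hx₀]
  have hne : φ (x₀ * c) ≠ 1 := by
    rw [hφx]; intro h1
    rw [h1, orderOf_one] at hto
    exact hpp.ne_one hto.symm
  have hsol := solvable_centralizer_lift φ hφ hK (x := x₀ * c) (by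
    obtain ⟨k, hk⟩ := IsPGroup.iff_orderOf.1 hSyl.isPGroup
      ⟨x₀ * c, mul_mem hxS (Subgroup.mem_inf.1 hcS).1⟩
    exact ⟨k, by rwa [Subgroup.orderOf_mk] at hk⟩) hne
  refine hYns ?_
  haveI := hsol
  have hle : Y ≤ Subgroup.centralizer ({x₀ * c} : Set K) := fun y hy => by
    rw [Subgroup.mem_centralizer_singleton_iff]
    exact Subgroup.mem_centralizer_iff.1 hcfix y hy
  exact Group.isSolvable_of_isSolvable_injective (Subgroup.inclusion_injective hle)

/-- the `p`-part of the kernel is central: fix a lift modulo `P` -/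
theorem false_of_central {P : Subgroup K} [P.Normal] (hPZ : P ≤ Subgroup.center K)
    (hPR : P ≤ φ.ker) (hidx : ¬ p ∣ P.relIndex φ.ker) {σ : alternatingGroup (Fin m)}
    (hσ : orderOf σ = p) : False := by
  have hpp := (Fact.out : p.Prime)
  set t := left m σ with ht
  have hto : orderOf t = p := by rw [ht, orderOf_injective _ (left_injective m), hσ]
  obtain ⟨x, hxo, hx⟩ := exists_p_lift φ hφ hto
  have hsol := solvable_centralizer_lift φ hφ hK hxo (by
    rw [hx]; intro h1
    rw [h1, orderOf_one] at hto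
    exact hpp.ne_one hto.symm)
  let q := QuotientGroup.mk' P
  let D : Subgroup K :=
    { carrier := {k | k * x * k⁻¹ * x⁻¹ ∈ P}
      one_mem' := by simp
      mul_mem' := fun {a b} ha hb => by
        have hc := Subgroup.mem_center_iff.1 (hPZ hb) a
        have h1 : (a * b) * x * (a * b)⁻¹ * x⁻¹ =
            (b * x * b⁻¹ * x⁻¹) * (a * x * a⁻¹ * x⁻¹) := by
          calc (a * b) * x * (a * b)⁻¹ * x⁻¹
              = a * (b * x * b⁻¹ * x⁻¹) * (x * a⁻¹ * x⁻¹) := by group
            _ = _ := by rw [hc]; group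
        show (a * b) * x * (a * b)⁻¹ * x⁻¹ ∈ P
        rw [h1]; exact P.mul_mem hb ha
      inv_mem' := fun {a} ha => by
        show a⁻¹ * x * a⁻¹⁻¹ * x⁻¹ ∈ P
        have := (inferInstance : P.Normal).conj_mem _ (P.inv_mem ha) a⁻¹
        rwa [show a⁻¹ * (a * x * a⁻¹ * x⁻¹)⁻¹ * a⁻¹⁻¹ = a⁻¹ * x * a⁻¹⁻¹ * x⁻¹ by group] at this }
  refine not_solvable_of_map φ (not_isSolvable_range_right m) (D := D) ?_
    (solvable_of_comm_central (fun k hk => hPZ hk) hsol)
  intro e he
  obtain ⟨l, rfl⟩ := hφ e
  have hcomm : φ l * t = t * φ l := by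
    obtain ⟨b, hb⟩ := he; rw [← hb]; exact (left_right_comm m σ b).symm
  -- the coset of `l` modulo the kernel contains a fixed point of `x` modulo `P`
  let N : Subgroup (K ⧸ P) := φ.ker.map q
  haveI : N.Normal := (MonoidHom.normal_ker φ).map q (QuotientGroup.mk'_surjective P)
  have hNcard : Nat.card N = P.relIndex φ.ker := by
    have h3 : (q.comp φ.ker.subtype).ker = P.subgroupOf φ.ker := by
      ext y; exact QuotientGroup.eq_one_iff (y : K)
    rw [Subgroup.relIndex, ← h3, Subgroup.index_ker, MonoidHom.range_comp,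
      Subgroup.range_subtype]
  have hAcomm : Group.IsSolvable (Subgroup.zpowers (q x)) :=
    isSolvable_of_isMulCommutative inferInstance
  obtain ⟨n, hn, hfix⟩ := exists_fixed_in_coset (A := Subgroup.zpowers (q x)) (N := N)
    (by rw [Subgroup.normalizer_eq_top]; exact le_top)
    (by
      obtain ⟨k, hk⟩ := hxo
      obtain ⟨j, -, hj⟩ := (Nat.dvd_prime_pow hpp).1 (hk ▸ orderOf_map_dvd q x)
      rw [Nat.card_zpowers, hj, hNcard]
      exact Nat.Coprime.pow_left _ (hpp.coprime_iff_not_dvd.2 hidx))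
    (Or.inl hAcomm) (k := q l) (by rw [Subgroup.normalizer_eq_top]; trivial) fun a ha => by
      obtain ⟨j, rfl⟩ := Subgroup.mem_zpowers_iff.1 ha
      refine ⟨x ^ j * l * (x ^ j)⁻¹ * l⁻¹, ?_, by simp⟩
      rw [SetLike.mem_coe, MonoidHom.mem_ker, map_mul, map_mul, map_mul, map_inv, map_inv,
        map_zpow, hx, ((show Commute t (φ l) from hcomm.symm).zpow_left j).eq]
      group
  obtain ⟨r, hr, rfl⟩ := hn
  refine ⟨l * r, ?_, by rw [map_mul, MonoidHom.mem_ker.1 hr, mul_one]⟩
  show (l * r) * x * (l * r)⁻¹ * x⁻¹ ∈ P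
  have := Subgroup.mem_centralizer_iff.1 hfix _ (Subgroup.mem_zpowers (q x))
  rw [← map_mul, ← map_mul, ← map_mul] at this
  rw [← QuotientGroup.eq_one_iff]
  show q ((l * r) * x * (l * r)⁻¹ * x⁻¹) = 1
  rw [map_mul, map_mul, map_mul, map_inv, map_inv, ← map_mul q (l * r) x, ← this,
    map_mul q x (l * r)]
  group

/-- the `p`-part of the kernel is not central: a vector with a non-solvable stabilizer -/
theorem false_of_not_central {P : Subgroup K} [P.Normal] (hPp : IsPGroup p P)
    (hPZ : ¬ P ≤ Subgroup.center K) (hPR : P ≤ φ.ker) (hnil : Group.IsNilpotent φ.ker)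
    (hmod : ModFixed.{u} p (m + 5)) : False := by
  have hpp := (Fact.out : p.Prime)
  set Z₀ : Subgroup K := P ⊓ Subgroup.center K with hZ₀
  let q := QuotientGroup.mk' Z₀
  have hq : Function.Surjective q := QuotientGroup.mk'_surjective Z₀
  let R : Subgroup (K ⧸ Z₀) := φ.ker.map q
  let Pb : Subgroup (K ⧸ Z₀) := P.map q
  haveI hRn : R.Normal := (MonoidHom.normal_ker φ).map q hq
  haveI hPbn : Pb.Normal := (inferInstance : P.Normal).map q hq
  have hPb : Pb ≤ R := Subgroup.map_mono hPR
  haveI : Group.IsNilpotent R := by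
    haveI := hnil
    exact Group.nilpotent_of_surjective (q.subgroupMap φ.ker) (q.subgroupMap_surjective _)
  have hne : Pb.subgroupOf R ≠ ⊥ := by
    intro h0
    refine hPZ fun y hy => ?_
    have h1 : q y ∈ Pb := ⟨y, hy, rfl⟩
    have h2 : (⟨q y, hPb h1⟩ : R) ∈ Pb.subgroupOf R := h1
    rw [h0, Subgroup.mem_bot] at h2
    exact (Subgroup.mem_inf.1 ((QuotientGroup.eq_one_iff (N := Z₀) y).1
      (congrArg Subtype.val h2))).2
  obtain ⟨z, hzP, hzc, hz1⟩ := exists_center_mem hne
  let V : Subgroup (K ⧸ Z₀) :=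
    { carrier := {v | v ∈ Pb ∧ v ∈ Subgroup.centralizer (R : Set (K ⧸ Z₀)) ∧ v ^ p = 1}
      one_mem' := ⟨one_mem _, one_mem _, one_pow p⟩
      mul_mem' := fun {a b} ha hb => ⟨mul_mem ha.1 hb.1, mul_mem ha.2.1 hb.2.1, by
        have hc : Commute a b := (Subgroup.mem_centralizer_iff.1 ha.2.1 b (hPb hb.1)).symm
        rw [hc.mul_pow, ha.2.2, hb.2.2, one_mul]⟩
      inv_mem' := fun {a} ha => ⟨inv_mem ha.1, inv_mem ha.2.1, by rw [inv_pow, ha.2.2, inv_one]⟩ }
  haveI hVn : V.Normal := ⟨fun v hv g => ⟨hPbn.conj_mem v hv.1 g,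
    (inferInstance : (Subgroup.centralizer (R : Set (K ⧸ Z₀))).Normal).conj_mem v hv.2.1 g, by
      rw [conj_pow, hv.2.2]; group⟩⟩
  letI : CommGroup V :=
    { (inferInstance : Group V) with
      mul_comm := fun a b => Subtype.ext
        (Subgroup.mem_centralizer_iff.1 b.2.2.1 a (hPb a.2.1)) }
  -- a non-trivial element of `V`
  obtain ⟨v₀, hv₀, hv₀1⟩ : ∃ v ∈ V, v ≠ 1 := by
    have hzC : (z : K ⧸ Z₀) ∈ Subgroup.centralizer (R : Set (K ⧸ Z₀)) :=
      Subgroup.mem_centralizer_iff.2 fun y hy =>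
        congrArg Subtype.val (Subgroup.mem_center_iff.1 hzc ⟨y, hy⟩)
    obtain ⟨k, hk⟩ := IsPGroup.iff_orderOf.1 (hPp.map q) ⟨(z : K ⧸ Z₀), Subgroup.mem_subgroupOf.1 hzP⟩
    rw [Subgroup.orderOf_mk] at hk
    have hk0 : k ≠ 0 := by
      rintro rfl
      rw [pow_zero, orderOf_eq_one_iff] at hk
      exact hz1 (Subtype.ext hk)
    refine ⟨(z : K ⧸ Z₀) ^ (p ^ (k - 1)), ⟨pow_mem (Subgroup.mem_subgroupOf.1 hzP) _, pow_mem hzC _, ?_⟩, fun h => ?_⟩
    · rw [← pow_mul, ← pow_succ, Nat.sub_add_cancel (Nat.one_le_iff_ne_zero.2 hk0), ← hk,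
        pow_orderOf_eq_one]
    · have := orderOf_dvd_of_pow_eq_one h
      rw [hk] at this
      have := (Nat.pow_dvd_pow_iff_le_right hpp.one_lt).1 this
      omega
  haveI : Nontrivial V := ⟨⟨v₀, hv₀⟩, 1, fun h => hv₀1 (congrArg Subtype.val h)⟩
  let act : K →* AddMonoid.End (Additive V) :=
    { toFun := fun k => ((MulAut.conjNormal (q k) : V ≃* V).toMonoidHom).toAdditive
      map_one' := by
        apply AddMonoidHom.ext
        intro x
        show Additive.ofMul (MulAut.conjNormal (q 1) (Additive.toMul x)) = x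
        rw [map_one, map_one]
        rfl
      map_mul' := fun a b => by
        apply AddMonoidHom.ext
        intro x
        show Additive.ofMul (MulAut.conjNormal (q (a * b)) (Additive.toMul x)) =
          Additive.ofMul (MulAut.conjNormal (q a) (MulAut.conjNormal (q b) (Additive.toMul x)))
        rw [map_mul, map_mul]
        rfl }
  have hker : ∀ k ∈ φ.ker, act k = 1 := by
    intro k hk
    apply AddMonoidHom.ext
    intro x
    show Additive.ofMul (MulAut.conjNormal (q k) (Additive.toMul x)) = x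
    refine congrArg Additive.ofMul (Subtype.ext ?_)
    have := Subgroup.mem_centralizer_iff.1 (Additive.toMul x).2.2.1 (q k) ⟨k, hk, rfl⟩
    rw [MulAut.conjNormal_apply, this, mul_inv_cancel_right]
    rfl
  have hfib : ∀ a b : K, φ a = φ b → act a = act b := by
    intro a b hab
    have : b⁻¹ * a ∈ φ.ker := by simp [MonoidHom.mem_ker, hab]
    rw [← mul_inv_cancel_left b a, map_mul, hker _ this, mul_one]
  let ρ : alternatingGroup (Fin (m + 5)) →* AddMonoid.End (Additive V) :=
    { toFun := fun g => act (Function.surjInv hφ g)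
      map_one' := by
        rw [hfib _ 1 (by rw [Function.surjInv_eq hφ, map_one]), map_one]
      map_mul' := fun g g' => by
        rw [← map_mul]
        exact hfib _ _ (by rw [map_mul, Function.surjInv_eq hφ, Function.surjInv_eq hφ,
          Function.surjInv_eq hφ]) }
  obtain ⟨x, hx0, S, hS, hSns⟩ := hmod (Additive V) ρ fun x => by
    have := (Additive.toMul x).2.2.2
    exact congrArg Additive.ofMul (Subtype.ext (a1 := Additive.toMul x ^ p) (a2 := 1) this)
  obtain ⟨r, hrP, hr⟩ := (Additive.toMul x).2.1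
  have hrc : r ∉ Subgroup.center K := fun hc => hx0 (by
    have h1 : q r = 1 := (QuotientGroup.eq_one_iff r).2 (Subgroup.mem_inf.2 ⟨hrP, hc⟩)
    exact congrArg Additive.ofMul (Subtype.ext (a1 := Additive.toMul x) (a2 := 1) (hr.symm.trans h1)))
  have hro : ∃ k : ℕ, orderOf r = p ^ k := by
    obtain ⟨k, hk⟩ := IsPGroup.iff_orderOf.1 hPp ⟨r, hrP⟩
    exact ⟨k, by rwa [Subgroup.orderOf_mk] at hk⟩
  refine not_solvable_of_map φ hSns (D := S.comap φ)
    (le_of_eq (Subgroup.map_comap_eq_self_of_surjective hφ S).symm)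
    (solvable_of_comm_central (fun k hk => ?_) (hK r hrc hro))
  have h1 : act k x = x := by
    exact (congrFun (congrArg DFunLike.coe (hfib k _ (Function.surjInv_eq hφ (φ k)).symm)) x).trans
      (hS (φ k) hk)
  have h2 : q k * q r * (q k)⁻¹ = q r := by
    rw [hr]; exact congrArg (fun y => ((Additive.toMul y : V) : K ⧸ Z₀)) h1
  have h3 : q (k * r * k⁻¹ * r⁻¹) = 1 := by
    rw [map_mul, map_mul, map_mul, map_inv, map_inv, h2, mul_inv_cancel]
  exact (Subgroup.mem_inf.1 ((QuotientGroup.eq_one_iff (N := Z₀) _).1 h3)).2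

end

/-- No minimal cover of `Alt(m + 5)` has solvable centralizers of noncentral `p`-elements. -/
theorem false_of_cover {K : Type u} [Group K] [Finite K] {p m : ℕ} [Fact p.Prime]
    (φ : K →* alternatingGroup (Fin (m + 5))) (hφ : Function.Surjective φ)
    (hfr : φ.ker ≤ frattini K)
    (hK : ∀ x : K, x ∉ Subgroup.center K → (∃ k : ℕ, orderOf x = p ^ k) →
      Group.IsSolvable (Subgroup.centralizer ({x} : Set K)))
    (hpm : p ∣ Nat.card (alternatingGroup (Fin m)))
    (hcase : 7 ≤ p ∨ ModFixed.{u} p (m + 5)) : False := by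
  obtain ⟨σ, hσ⟩ := exists_prime_orderOf_dvd_card' p hpm
  haveI : Group.IsNilpotent (frattini K) := frattini_nilpotent
  have hnil : Group.IsNilpotent φ.ker := by
    haveI : Group.IsNilpotent (φ.ker.subgroupOf (frattini K)) := inferInstance
    exact Group.nilpotent_of_surjective (Subgroup.subgroupOfEquivOfLe hfr).toMonoidHom
      (Subgroup.subgroupOfEquivOfLe hfr).surjective
  haveI := hnil
  obtain ⟨S⟩ := (inferInstance : Nonempty (Sylow p φ.ker))
  haveI : (S : Subgroup φ.ker).Characteristic := S.characteristic_of_normal inferInstance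
  let P : Subgroup K := (S : Subgroup φ.ker).map φ.ker.subtype
  haveI : P.Normal := ConjAct.normal_of_characteristic_of_normal
  have hPp : IsPGroup p P := S.isPGroup'.map _
  have hPR : P ≤ φ.ker := Subgroup.map_subtype_le _
  have hidx : ¬ p ∣ P.relIndex φ.ker := by
    have : P.subgroupOf φ.ker = S := Subgroup.comap_map_eq_self_of_injective
      φ.ker.subtype_injective _
    rw [Subgroup.relIndex, this]
    exact S.not_dvd_index
  rcases hcase with hp | hmod
  · exact false_of_coprime φ hφ hK hPp hPR hidx hσ hp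
  · by_cases hPZ : P ≤ Subgroup.center K
    · exact false_of_central φ hφ hK hPZ hPR hidx hσ
    · exact false_of_not_central φ hφ hK hPp hPZ hPR hnil hmod

end CfsgLib.AltModFixed.Reduce
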