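import Cfsg.Agent.Lib.AltModFixed.Check

/-! Certificate data for fixed vectors in modules of alternating groups. -/

set_option autoImplicit false
set_option maxRecDepth 20000

namespace CfsgLib.AltModFixed.Two

def hs : List (List Elem) :=
  [[⟨23457182016, [65, 132, 88, 37]⟩, ⟨36340838976, [65, 84]⟩],
    [⟨23457181716, [64, 132, 88, 37]⟩, ⟨36339790356, [64, 84]⟩],
    [⟨36093309216, [33, 118]⟩, ⟨6313763616, [33, 50, 99, 134]⟩],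
    [⟨36093308946, [32, 118]⟩, ⟨2018796306, [32, 50, 99, 134]⟩],
    [⟨35203868436, [64, 114, 55, 99]⟩, ⟨36244296246, [96, 49]⟩],
    [⟨35203934016, [65, 114, 55, 99]⟩, ⟨36261069411, [48, 97]⟩],
    [⟨35825922081, [16, 33, 101, 118]⟩, ⟨18874447911, [112, 103, 86, 33, 130, 72]⟩],
    [⟨35825922306, [32, 18, 101, 118]⟩, ⟨18875431026, [32, 130, 72, 113, 103, 86]⟩],
    [⟨31709168961, [16, 65, 52, 131, 120, 103, 38, 82]⟩, ⟨27920508756, [64, 20, 81, 53, 35, 114, 135, 104]⟩],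
    [⟨31710217476, [64, 52, 131, 120, 103, 38, 82, 21]⟩, ⟨27937220421, [80, 53, 35, 114, 135, 104, 22, 65]⟩],
    [⟨5695358496, [33, 98, 54, 67, 132, 117]⟩, ⟨27131070576, [113, 87, 37, 130, 104, 67]⟩],
    [⟨14902760736, [33, 82, 69, 100, 134, 56]⟩, ⟨10810175856, [113, 135, 40, 100]⟩]]

def wit : List (List (List ℕ × List ℕ)) :=
  [[([0, 1, 0], [0, 1]), ([1, 1], [0, 1, 0, 0, 1, 0, 0])],
    [([0, 1, 0], [0, 1]), ([1, 1], [0, 1, 0, 0, 1, 0, 0])],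
    [([1, 1, 0, 1], [0, 1, 0, 1, 1]), ([1, 1, 1], [0, 1, 1, 1, 1, 0, 1, 0])],
    [([1, 1, 0, 1], [0, 1, 0, 1, 1]), ([1, 1, 1], [0, 1, 1, 1, 1, 0, 1, 0])],
    [([1, 0, 1], [0, 1, 0, 1, 0, 0, 1, 0, 1, 0]), ([0, 0, 1, 0, 1, 0, 0], [0, 1, 0, 0, 0, 1, 0, 1, 0, 0, 0])],
    [([1, 0, 1], [1, 0, 1, 0, 1, 0, 0, 0, 1, 0]), ([0, 0, 1, 0, 1, 0, 0], [0, 0, 0, 1, 0, 1, 0, 0, 0, 1, 0])],
    [([0, 0], [1, 0, 1, 1, 1, 0, 1]), ([0, 0], [1, 0, 1, 1, 0, 1, 1, 0, 1])],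
    [([0, 0], [1, 0, 1, 1, 1, 0, 1]), ([0, 0], [0, 0, 1, 0, 0, 1, 0, 0, 1])],
    [([0, 1, 0], [0, 1, 1, 0, 0, 0, 0]), ([0, 1, 0], [0, 1, 0, 0, 0])],
    [([0, 0, 1], [0, 0, 1, 1, 0, 0, 0]), ([0, 1, 0], [0, 1, 0, 0, 0])],
    [([0, 1, 0], [1, 1, 0, 0, 1, 0, 1, 1, 0]), ([0, 1, 0], [0, 1, 1, 1, 1, 0, 1, 1])],
    [([0, 0], [1, 1, 0, 1, 1, 1]), ([0], [1, 1, 0, 0, 0, 1, 1, 1])]]

def k2 : List Elem :=
  [⟨18004412256, [97, 114, 55, 131, 72, 84]⟩, ⟨4886914416, [113, 39, 82, 69, 132, 99]⟩]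

def k3 : List Elem :=
  [⟨27182789136, [115, 87, 132, 104]⟩, ⟨23104877616, [49, 115, 103, 66, 132, 88]⟩]

def k4 : List Elem :=
  [⟨35810185776, [49, 117]⟩, ⟨5138449776, [113, 55, 131, 82, 69, 100]⟩]

def k5 : List Elem :=
  [⟨23463203376, [49, 133]⟩, ⟨13191509376, [129, 56, 115, 82, 69, 100]⟩]

def k6 : List Elem :=
  [⟨18020194416, [113, 55, 83, 130, 72, 100]⟩, ⟨27253813776, [117, 134]⟩, ⟨27237946176, [65, 36, 50, 133, 104, 118]⟩]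

def twist : List ℕ := [135]

end CfsgLib.AltModFixed.Two
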